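import Mathlib.GroupTheory.Perm.Cycle.Type
import Mathlib.GroupTheory.Subgroup.Centralizer

/-!
Counting the points fixed by conjugation.
-/

set_option autoImplicit false

namespace CfsgLib.SmallSimple.L33

variable {G : Type*} [Group G] [Finite G]

/-- An element of order dividing a prime power and fixing a set has as many fixed points as the set,
modulo the prime. -/
theorem card_conj_fixed_modEq {p : ℕ} [Fact p.Prime] {u : G} (hu : u ^ p = 1) (S : Set G)
    (hS : ∀ x, u * x * u⁻¹ ∈ S ↔ x ∈ S) :
    Nat.card {x : S // u * x * u⁻¹ = x} ≡ Nat.card S [MOD p] := by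
  classical
  let σ : Equiv.Perm S := ((MulAut.conj u).toEquiv).subtypeEquiv fun x => (hS x).symm
  have hpow : ∀ (n : ℕ) (x : S), ((σ ^ n) x : G) = u ^ n * x * (u ^ n)⁻¹ := by
    intro n
    induction n with
    | zero => intro x; simp
    | succ n ih =>
      intro x
      rw [pow_succ', Equiv.Perm.mul_apply]
      show u * ((σ ^ n) x : G) * u⁻¹ = _
      rw [ih, pow_succ']
      group
  have hσ : σ ^ p ^ 1 = 1 := by
    rw [pow_one]
    refine Equiv.ext fun x => Subtype.ext ?_
    rw [hpow, hu]
    simp
  have := Fintype.ofFinite S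
  have h := Equiv.Perm.card_compl_support_modEq hσ
  rw [Nat.card_eq_fintype_card (α := S), Fintype.card_congr (Equiv.refl S)] at *
  refine Eq.trans ?_ h
  rw [Nat.card_eq_fintype_card, Fintype.card_subtype]
  congr 2
  ext x
  simp only [Finset.mem_filter, Finset.mem_univ, true_and, Finset.mem_compl, Equiv.Perm.mem_support,
    not_not, Subtype.ext_iff]
  rfl

/-- A subgroup fixed in cardinality is fixed pointwise. -/
theorem fixed_card_le {u : G} (K : Subgroup G) :
    Nat.card {x : (K : Set G) // u * x * u⁻¹ = x} = Nat.card ↥(K ⊓ Subgroup.centralizer ({u} : Set G)) := by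
  refine Nat.card_congr
    { toFun := fun x => ⟨x.1.1, x.1.2, Subgroup.mem_centralizer_singleton_iff.2
        (mul_inv_eq_iff_eq_mul.1 x.2).symm⟩
      invFun := fun x => ⟨⟨x.1, x.2.1⟩, mul_inv_eq_iff_eq_mul.2
        (Subgroup.mem_centralizer_singleton_iff.1 x.2.2).symm⟩
      left_inv := fun _ => rfl
      right_inv := fun _ => rfl }

end CfsgLib.SmallSimple.L33
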