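import Cfsg.Agent.Lib.SmallSimple.L33.NoNormalThree
import Cfsg.Agent.Lib.SmallSimple.L33.Fix
import Cfsg.Agent.Lib.InvChar.RankOneInter.Final
import Cfsg.Agent.Lib.GL23.Local
import Cfsg.Agent.Lib.Char.Burnside

/-!
A simple group of order 5616: the centraliser of an involution is `GL(2,3)`.
-/

set_option autoImplicit false

namespace CfsgLib.SmallSimple.L33

open Subgroup
open scoped commutatorElement

universe u

variable {G : Type u} [Group G] [Fintype G] [IsSimpleGroup G]

/-- the centre of the Sylow subgroup has a subgroup of order four or is of order two -/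
theorem sylow_center_cases (hG : Nat.card G = 5616) (T : Sylow 2 G) :
    Nat.card (center ↥(T : Subgroup G)) = 2 ∨ Nat.card (center ↥(T : Subgroup G)) = 4 := by
  have : Fact (Nat.Prime 2) := ⟨Nat.prime_two⟩
  have hP := card_sylow_two hG T
  have : Nontrivial ↥(T : Subgroup G) := Finite.one_lt_card_iff_nontrivial.1 (by rw [hP]; norm_num)
  have := IsPGroup.center_nontrivial T.2
  have h1 : 1 < Nat.card (center ↥(T : Subgroup G)) := Finite.one_lt_card
  have hd : Nat.card (center ↥(T : Subgroup G)) ∣ 16 := hP ▸ card_subgroup_dvd_card _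
  rcases Nat.lt_or_ge (Nat.card (center ↥(T : Subgroup G))) 4 with h | h
  · left
    interval_cases hh : Nat.card (center ↥(T : Subgroup G)) <;> first | rfl | norm_num at hd
  · right
    obtain ⟨c, -, -, -, -, -, hc4, -⟩ := exists_unique_commutator hP (not_comm_sylow hG T) h
    exact hc4

omit [IsSimpleGroup G] in
theorem inf_centralizer_eq_self {u : G} {K : Subgroup G} (h : Nat.card K ≤
    Nat.card ↥(K ⊓ centralizer ({u} : Set G))) : ∀ k ∈ K, Commute k u := by
  intro k hk
  exact mem_centralizer_singleton_iff.1 ((eq_of_le_of_card_ge inf_le_left h).symm ▸ hk :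
    k ∈ K ⊓ centralizer ({u} : Set G)).2

/-- An element of order 3 of the centraliser of `t` normalising `T` centralises it. -/
theorem false_of_sylow_normalized (hG : Nat.card G = 5616) {t : G} (ht1 : t ≠ 1) (ht2 : t * t = 1)
    (T : Sylow 2 G) (htT : ∀ w ∈ (T : Subgroup G), w * t = t * w)
    (hn : centralizer ({t} : Set G) ≤ normalizer ((T : Subgroup G) : Set G)) : False := by
  classical
  have : Fact (Nat.Prime 2) := ⟨Nat.prime_two⟩
  have : Fact (Nat.Prime 3) := ⟨Nat.prime_three⟩
  obtain ⟨hTC, htT', hC⟩ := card_centralizer_inf_sylow hG ht1 ht2 T htT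
  have hP := card_sylow_two hG T
  set C := centralizer ({t} : Set G) with hCdef
  obtain ⟨⟨u, huC⟩, hu⟩ := exists_prime_orderOf_dvd_card' (G := C) 3 (by rw [hC]; norm_num)
  rw [Subgroup.orderOf_mk] at hu
  have hu3 : u ^ 3 = 1 := hu ▸ pow_orderOf_eq_one u
  have hut : Commute u t := mem_centralizer_singleton_iff.1 huC
  have hconjT : ∀ x ∈ (T : Subgroup G), u * x * u⁻¹ ∈ (T : Subgroup G) :=
    fun x hx => (mem_normalizer_iff.1 (hn huC) x).1 hx
  have hmod : ∀ K : Subgroup G, (∀ x ∈ K, u * x * u⁻¹ ∈ K) →
      Nat.card ↥(K ⊓ centralizer ({u} : Set G)) % 3 = Nat.card K % 3 := by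
    intro K hK
    have hiff : ∀ x, u * x * u⁻¹ ∈ (K : Set G) ↔ x ∈ (K : Set G) := by
      intro x
      refine ⟨fun h => ?_, hK x⟩
      have h2 := hK _ (hK _ h)
      have e : u * (u * (u * x * u⁻¹) * u⁻¹) * u⁻¹ = x := by
        rw [show u * (u * (u * x * u⁻¹) * u⁻¹) * u⁻¹ = u ^ 3 * x * (u ^ 3)⁻¹ by simp only [pow_succ, pow_zero]; group, hu3]; simp
      rwa [e] at h2
    have := card_conj_fixed_modEq hu3 (K : Set G) hiff
    rwa [fixed_card_le] at this
  have hdvd : ∀ K : Subgroup G, Nat.card ↥(K ⊓ centralizer ({u} : Set G)) ∣ Nat.card K := fun K =>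
    card_dvd_of_le inf_le_left
  -- it suffices that `u` centralises `T`
  suffices hcent : ∀ x ∈ (T : Subgroup G), Commute x u by
    refine no_normal_three hG ht1 ht2 T htT hu huC ?_
    have hle : (T : Subgroup G) ⊔ zpowers u ≤ normalizer (zpowers u : Set G) :=
      sup_le (fun x hx => by
        refine mem_normalizer_iff.2 fun y => ?_
        constructor
        · intro hy
          obtain ⟨k, rfl⟩ := mem_zpowers_iff.1 hy
          rw [((hcent x hx).zpow_right k).eq, mul_inv_cancel_right]
          exact zpow_mem (mem_zpowers u) k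
        · intro hy
          obtain ⟨k, hk⟩ := mem_zpowers_iff.1 hy
          have : y = u ^ k := by
            rw [show y = x⁻¹ * (x * y * x⁻¹) * x by group, ← hk, mul_assoc,
              ← ((hcent x hx).zpow_right k).eq, inv_mul_cancel_left]
          exact this ▸ zpow_mem (mem_zpowers u) k) le_normalizer
    have hsup : (T : Subgroup G) ⊔ zpowers u ≤ C := sup_le hTC (zpowers_le.2 huC)
    have h48 : 48 ≤ Nat.card ↥((T : Subgroup G) ⊔ zpowers u) := by
      have h16 : 16 ∣ Nat.card ↥((T : Subgroup G) ⊔ zpowers u) := hP ▸ card_dvd_of_le le_sup_left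
      have h3 : 3 ∣ Nat.card ↥((T : Subgroup G) ⊔ zpowers u) := by
        have := card_dvd_of_le (le_sup_right (a := (T : Subgroup G)) (b := zpowers u))
        rwa [Nat.card_zpowers, hu] at this
      exact Nat.le_of_dvd Nat.card_pos (Nat.Coprime.mul_dvd_of_dvd_of_dvd (by norm_num) h16 h3)
    rw [eq_of_le_of_card_ge hsup (by rw [hC]; exact h48)] at hle
    exact hle
  let c : ↥(T : Subgroup G) → ↥(T : Subgroup G) := fun x => ⟨u * x * u⁻¹, hconjT x x.2⟩
  have hc_mul : ∀ x y : ↥(T : Subgroup G), c (x * y) = c x * c y := fun x y => Subtype.ext (by show u * ((x : G) * y) * u⁻¹ = u * x * u⁻¹ * (u * y * u⁻¹); group)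
  have hc_surj : Function.Surjective c := Finite.surjective_of_injective fun x y h => by
    have := congrArg Subtype.val h
    exact Subtype.ext (mul_left_cancel (mul_right_cancel this))
  have hc_cen : ∀ z : ↥(T : Subgroup G), z ∈ center ↥(T : Subgroup G) → c z ∈ center ↥(T : Subgroup G) := fun z hz => mem_center_iff.2 fun g => by
    obtain ⟨g', rfl⟩ := hc_surj g
    rw [← hc_mul, ← hc_mul, mem_center_iff.1 hz g']
  set Z := (center ↥(T : Subgroup G)).map (T : Subgroup G).subtype with hZ
  have hZc : Nat.card Z = Nat.card (center ↥(T : Subgroup G)) :=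
    (Nat.card_congr ((center ↥(T : Subgroup G)).equivMapOfInjective _ (T : Subgroup G).subtype_injective).toEquiv).symm
  have hZinv : ∀ x ∈ Z, u * x * u⁻¹ ∈ Z := by
    rintro _ ⟨z, hz, rfl⟩
    exact ⟨c z, hc_cen z hz, rfl⟩
  have htZ : t ∈ Z := ⟨⟨t, htT'⟩, mem_center_iff.2 fun w => Subtype.ext (htT w w.2), rfl⟩
  have hZfix : ∀ z ∈ Z, Commute z u := by
    refine inf_centralizer_eq_self ?_
    have hm := hmod Z hZinv
    have h2 : 2 ≤ Nat.card ↥(Z ⊓ centralizer ({u} : Set G)) := by
      have htm : t ∈ Z ⊓ centralizer ({u} : Set G) :=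
        ⟨htZ, mem_centralizer_singleton_iff.2 hut.symm.eq⟩
      have : Nontrivial ↥(Z ⊓ centralizer ({u} : Set G)) :=
        ⟨⟨⟨t, htm⟩, 1, fun e => ht1 (congrArg Subtype.val e)⟩⟩
      exact Finite.one_lt_card
    have hd := hdvd Z
    have hle := Nat.le_of_dvd Nat.card_pos hd
    rcases sylow_center_cases hG T with h | h <;> rw [hZc, h] at hm hd hle ⊢
    · omega
    · interval_cases Nat.card ↥(Z ⊓ centralizer ({u} : Set G)) <;> omega
  have hZfix' : ∀ z : ↥(T : Subgroup G), z ∈ center ↥(T : Subgroup G) → u * (z : G) * u⁻¹ = z := fun z hz => by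
    have h := hZfix (z : G) ⟨z, hz, rfl⟩
    rw [← h.eq, mul_inv_cancel_right]
  set F := (T : Subgroup G) ⊓ centralizer ({u} : Set G) with hF
  have hZF : Z ≤ F := le_inf (map_subtype_le _) fun z hz => mem_centralizer_singleton_iff.2 (hZfix z hz)
  rcases sylow_center_cases hG T with h2 | h4
  · -- centre of order 2
    by_cases hcomm : ∀ a b : ↥(T : Subgroup G), ⁅a, b⁆ ∈ center ↥(T : Subgroup G)
    · exfalso
      -- two abelian maximal subgroups
      have hidx : ∀ y : ↥(T : Subgroup G), y ∉ center ↥(T : Subgroup G) → (centralizer ({y} : Set ↥(T : Subgroup G))).index = 2 := by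
        intro y hy
        let f : ↥(T : Subgroup G) →* center ↥(T : Subgroup G) :=
          { toFun := fun x => ⟨⁅x, y⁆, hcomm x y⟩
            map_one' := Subtype.ext (by simp [commutatorElement_def])
            map_mul' := fun a b => Subtype.ext (by
              have hb := mem_center_iff.1 (hcomm b y) a
              simp only [commutatorElement_def] at hb
              simp only [commutatorElement_def, Subgroup.coe_mul]
              calc a * b * y * (a * b)⁻¹ * y⁻¹ = a * (b * y * b⁻¹ * y⁻¹) * (y * a⁻¹ * y⁻¹) := by group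
                _ = b * y * b⁻¹ * y⁻¹ * a * (y * a⁻¹ * y⁻¹) := by rw [hb]
                _ = b * y * b⁻¹ * y⁻¹ * (a * y * a⁻¹ * y⁻¹) := by group
                _ = a * y * a⁻¹ * y⁻¹ * (b * y * b⁻¹ * y⁻¹) := by
                    have := mem_center_iff.1 (hcomm b y) (a * y * a⁻¹ * y⁻¹)
                    simp only [commutatorElement_def] at this
                    exact this.symm) }
        have hker : f.ker = centralizer ({y} : Set ↥(T : Subgroup G)) := by
          ext x
          rw [MonoidHom.mem_ker, mem_centralizer_singleton_iff]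
          exact ⟨fun h => commutatorElement_eq_one_iff_commute.1 (congrArg Subtype.val h),
            fun h => Subtype.ext (commutatorElement_eq_one_iff_commute.2 h)⟩
        rw [← hker, Subgroup.index_ker]
        have hle : Nat.card f.range ≤ 2 := (Nat.le_of_dvd Nat.card_pos (card_subgroup_dvd_card _)).trans h2.le
        have hne : Nat.card f.range ≠ 1 := fun h1 => hy (by
          have hk : centralizer ({y} : Set ↥(T : Subgroup G)) = ⊤ := by
            rw [← hker, ← index_eq_one, Subgroup.index_ker]; exact h1
          exact mem_center_iff.2 fun g => mem_centralizer_singleton_iff.1 (show g ∈ centralizer ({y} : Set ↥(T : Subgroup G)) by rw [hk]; exact mem_top g))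
        have : 0 < Nat.card f.range := Nat.card_pos
        omega
      have hab : ∀ y : ↥(T : Subgroup G), y ∉ center ↥(T : Subgroup G) → ∀ a ∈ centralizer ({y} : Set ↥(T : Subgroup G)),
          ∀ b ∈ centralizer ({y} : Set ↥(T : Subgroup G)), a * b = b * a := by
        intro y hy
        set D := centralizer ({y} : Set ↥(T : Subgroup G)) with hD
        have hDc : Nat.card D = 8 := by
          have := D.card_mul_index
          rw [hidx y hy, hP] at this
          omega
        have hzD : ∀ z : ↥(T : Subgroup G), z ∈ center ↥(T : Subgroup G) → z ∈ D := fun z hz => center_le_centralizer _ hz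
        let y' : center D := ⟨⟨y, mem_centralizer_singleton_iff.2 rfl⟩,
          mem_center_iff.2 fun w => Subtype.ext (mem_centralizer_singleton_iff.1 w.2)⟩
        let t' : center D := ⟨⟨⟨t, htT'⟩, hzD _ (mem_center_iff.2 fun w => Subtype.ext (htT w w.2))⟩,
          mem_center_iff.2 fun w => Subtype.ext (Subtype.ext (htT (w : ↥(T : Subgroup G)) (w : ↥(T : Subgroup G)).2))⟩
        have h3 : 3 ≤ Nat.card (center D) := three_le_card (a := t'.1) (b := y'.1)
          (fun e => ht1 (congrArg (fun q : D => ((q : ↥(T : Subgroup G)) : G)) e))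
          (fun e => hy (by rw [show y = 1 from congrArg Subtype.val e]; exact one_mem _))
          (fun e => hy (by
            rw [show y = ⟨t, htT'⟩ from congrArg Subtype.val e]
            exact mem_center_iff.2 fun w => Subtype.ext (htT w w.2))) t'.2 y'.2
        have hd : Nat.card (center D) ∣ 8 := hDc ▸ card_subgroup_dvd_card _
        have hq := Subgroup.card_eq_card_quotient_mul_card_subgroup (center D)
        rw [hDc] at hq
        have h4' : 4 ≤ Nat.card (center D) := by
          by_contra h
          have : Nat.card (center D) = 3 := by omega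
          rw [this] at hd
          norm_num at hd
        have hq2 : Nat.card (D ⧸ center D) ≤ 2 := by nlinarith
        have hcyc : IsCyclic (D ⧸ center D) := isCyclic_of_card_dvd_prime (p := 2) (by
          have hpos : 0 < Nat.card (D ⧸ center D) := Nat.card_pos
          interval_cases h : Nat.card (D ⧸ center D) <;> norm_num)
        intro a ha b hb
        exact congrArg Subtype.val (commutative_of_cyclic_center_quotient
          (QuotientGroup.mk' (center D)) (by simp) (⟨a, ha⟩ : D) ⟨b, hb⟩)
      obtain ⟨y, hy⟩ : ∃ y : ↥(T : Subgroup G), y ∉ center ↥(T : Subgroup G) := by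
        by_contra! h
        exact not_comm_sylow hG T fun a b => (mem_center_iff.1 (h a) b).symm
      obtain ⟨w, hw⟩ : ∃ w : ↥(T : Subgroup G), w ∉ centralizer ({y} : Set ↥(T : Subgroup G)) := by
        by_contra! h
        exact hy (mem_center_iff.2 fun g => mem_centralizer_singleton_iff.1 (h g))
      have hwZ : w ∉ center ↥(T : Subgroup G) := fun h => hw (center_le_centralizer _ h)
      set D1 := centralizer ({y} : Set ↥(T : Subgroup G))
      set D2 := centralizer ({w} : Set ↥(T : Subgroup G))
      have hwD2 : w ∈ D2 := mem_centralizer_singleton_iff.2 rfl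
      have hint : D1 ⊓ D2 ≤ center ↥(T : Subgroup G) := by
        intro x hx
        refine mem_center_iff.2 fun g => ?_
        by_cases hg : g ∈ D1
        · exact hab y hy g hg x hx.1
        · have hgw : g * w⁻¹ ∈ D1 := by
            rw [mul_mem_iff_of_index_two (hidx y hy), inv_mem_iff]
            exact ⟨fun h => absurd h hg, fun h => absurd h hw⟩
          calc g * x = g * w⁻¹ * (w * x) := by group
            _ = g * w⁻¹ * (x * w) := by rw [hab w hwZ w hwD2 x hx.2]
            _ = x * (g * w⁻¹) * w := by rw [← mul_assoc, hab y hy _ hgw x hx.1]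
            _ = x * g := by group
      have h1 := Subgroup.index_inf_le (H := D1) (K := D2)
      rw [hidx y hy, hidx w hwZ] at h1
      have h2' := card_dvd_of_le hint
      rw [h2] at h2'
      have hmul := (D1 ⊓ D2).card_mul_index
      rw [hP] at hmul
      have := Nat.le_of_dvd (by norm_num) h2'
      nlinarith
    -- the second centre
    let K' : Subgroup ↥(T : Subgroup G) := (center (↥(T : Subgroup G) ⧸ center ↥(T : Subgroup G))).comap (QuotientGroup.mk' (center ↥(T : Subgroup G)))
    have hK' : ∀ x : ↥(T : Subgroup G), x ∈ K' ↔ ∀ y, ⁅x, y⁆ ∈ center ↥(T : Subgroup G) := by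
      intro x
      rw [mem_comap, mem_center_iff]
      constructor
      · intro h y
        rw [← QuotientGroup.eq_one_iff, ← QuotientGroup.mk'_apply, map_commutatorElement,
          commutatorElement_eq_one_iff_commute]
        exact (h _).symm
      · intro h g
        obtain ⟨y, rfl⟩ := QuotientGroup.mk_surjective g
        have := (QuotientGroup.eq_one_iff _).2 (h y)
        rw [← QuotientGroup.mk'_apply, map_commutatorElement, commutatorElement_eq_one_iff_commute] at this
        exact this.symm
    have hKc : Nat.card K' = 4 := by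
      have hq := Subgroup.card_eq_card_quotient_mul_card_subgroup (center ↥(T : Subgroup G))
      rw [hP, h2] at hq
      have hq8 : Nat.card (↥(T : Subgroup G) ⧸ center ↥(T : Subgroup G)) = 8 := by omega
      have : Nontrivial (↥(T : Subgroup G) ⧸ center ↥(T : Subgroup G)) := Finite.one_lt_card_iff_nontrivial.1 (by rw [hq8]; norm_num)
      have := IsPGroup.center_nontrivial (IsPGroup.of_card (p := 2) (n := 3) hq8 : IsPGroup 2 (↥(T : Subgroup G) ⧸ center ↥(T : Subgroup G)))
      have h1 : 1 < Nat.card (center (↥(T : Subgroup G) ⧸ center ↥(T : Subgroup G))) := Finite.one_lt_card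
      have hd : Nat.card (center (↥(T : Subgroup G) ⧸ center ↥(T : Subgroup G))) ∣ 8 := hq8 ▸ card_subgroup_dvd_card _
      have hne : center (↥(T : Subgroup G) ⧸ center ↥(T : Subgroup G)) ≠ ⊤ := fun e => hcomm fun a b =>
        (hK' a).1 (by show QuotientGroup.mk' (center ↥(T : Subgroup G)) a ∈ center (↥(T : Subgroup G) ⧸ center ↥(T : Subgroup G)); rw [e]; exact mem_top _) b
      have hzq := Subgroup.card_eq_card_quotient_mul_card_subgroup (center (↥(T : Subgroup G) ⧸ center ↥(T : Subgroup G)))
      rw [hq8] at hzq
      have hz2 : Nat.card (center (↥(T : Subgroup G) ⧸ center ↥(T : Subgroup G))) = 2 := by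
        have := Nat.le_of_dvd (by norm_num) hd
        have hmem : Nat.card (center (↥(T : Subgroup G) ⧸ center ↥(T : Subgroup G))) ∈ Nat.divisors 8 := Nat.mem_divisors.2 ⟨hd, by norm_num⟩
        rw [show Nat.divisors 8 = {1, 2, 4, 8} from by decide] at hmem
        simp only [Finset.mem_insert, Finset.mem_singleton] at hmem
        rcases hmem with hh | hh | hh | hh
        · omega
        · exact hh
        · exfalso
          have hcyc : IsCyclic ((↥(T : Subgroup G) ⧸ center ↥(T : Subgroup G)) ⧸ center (↥(T : Subgroup G) ⧸ center ↥(T : Subgroup G))) :=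
            isCyclic_of_card_dvd_prime (p := 2) ⟨1, by rw [hh] at hzq; omega⟩
          refine hne (eq_top_iff.2 fun a _ => mem_center_iff.2 fun b => ?_)
          exact commutative_of_cyclic_center_quotient
            (QuotientGroup.mk' (center (↥(T : Subgroup G) ⧸ center ↥(T : Subgroup G)))) (by simp) b a
        · exact absurd (eq_top_of_card_eq _ (by rw [hh, hq8])) hne
      have hidx := Subgroup.index_comap_of_surjective (center (↥(T : Subgroup G) ⧸ center ↥(T : Subgroup G)))
        (QuotientGroup.mk'_surjective (center ↥(T : Subgroup G)))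
      have h4i : (center (↥(T : Subgroup G) ⧸ center ↥(T : Subgroup G))).index = 4 := by
        have := (center (↥(T : Subgroup G) ⧸ center ↥(T : Subgroup G))).card_mul_index
        rw [hz2, hq8] at this
        omega
      have := K'.card_mul_index
      rw [show K'.index = 4 from hidx.trans h4i, hP] at this
      omega
    have hc_com : ∀ a b : ↥(T : Subgroup G), c ⁅a, b⁆ = ⁅c a, c b⁆ := fun a b => Subtype.ext (by
      simp [c, commutatorElement_def]; group)
    set K := K'.map (T : Subgroup G).subtype with hK
    have hKcard : Nat.card K = 4 := by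
      rw [← hKc]
      exact (Nat.card_congr (K'.equivMapOfInjective _ (T : Subgroup G).subtype_injective).toEquiv).symm
    have hKinv : ∀ x ∈ K, u * x * u⁻¹ ∈ K := by
      rintro _ ⟨x, hx, rfl⟩
      refine ⟨c x, (hK' _).2 fun y => ?_, rfl⟩
      obtain ⟨y', rfl⟩ := hc_surj y
      rw [← hc_com]
      exact hc_cen _ ((hK' x).1 hx y')
    have hZK : Z ≤ K := map_mono fun z hz => (hK' z).2 fun y => by
      rw [commutatorElement_eq_one_iff_commute.2 (mem_center_iff.1 hz y).symm]
      exact one_mem _
    have hKfix : ∀ k ∈ K, Commute k u := by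
      refine inf_centralizer_eq_self ?_
      have hm := hmod K hKinv
      have h2' : 2 ≤ Nat.card ↥(K ⊓ centralizer ({u} : Set G)) := by
        rw [← h2, ← hZc]
        exact Nat.le_of_dvd Nat.card_pos (card_dvd_of_le (le_inf hZK (hZF.trans inf_le_right)))
      have hd := hdvd K
      have hle := Nat.le_of_dvd Nat.card_pos hd
      rw [hKcard] at hm hd hle ⊢
      interval_cases Nat.card ↥(K ⊓ centralizer ({u} : Set G)) <;> omega
    -- `k` generates `K` over the centre
    obtain ⟨k, hk, hkZ⟩ : ∃ k ∈ K', k ∉ center ↥(T : Subgroup G) := by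
      by_contra! h
      have := Nat.le_of_dvd Nat.card_pos (card_dvd_of_le (h : K' ≤ center ↥(T : Subgroup G)))
      omega
    let f : ↥(T : Subgroup G) →* center ↥(T : Subgroup G) :=
      { toFun := fun x => ⟨⁅k, x⁆, (hK' k).1 hk x⟩
        map_one' := Subtype.ext (by simp [commutatorElement_def])
        map_mul' := fun a b => Subtype.ext (by
          have hb := mem_center_iff.1 ((hK' k).1 hk b) a
          simp only [commutatorElement_def] at hb
          simp only [commutatorElement_def, Subgroup.coe_mul]
          calc k * (a * b) * k⁻¹ * (a * b)⁻¹ = k * a * k⁻¹ * (k * b * k⁻¹ * b⁻¹) * a⁻¹ := by group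
            _ = k * a * k⁻¹ * a⁻¹ * (a * (k * b * k⁻¹ * b⁻¹)) * a⁻¹ := by group
            _ = k * a * k⁻¹ * a⁻¹ * ((k * b * k⁻¹ * b⁻¹) * a) * a⁻¹ := by rw [hb]
            _ = k * a * k⁻¹ * a⁻¹ * (k * b * k⁻¹ * b⁻¹) := by group) }
    set M' := f.ker with hM'
    have hMmem : ∀ x : ↥(T : Subgroup G), x ∈ M' ↔ Commute k x := fun x => by
      rw [hM', MonoidHom.mem_ker]
      exact ⟨fun h => commutatorElement_eq_one_iff_commute.1 (congrArg Subtype.val h),
        fun h => Subtype.ext (commutatorElement_eq_one_iff_commute.2 h)⟩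
    have hM8 : Nat.card M' = 8 := by
      have hmul := M'.card_mul_index
      rw [hP, hM', Subgroup.index_ker] at hmul
      have hle : Nat.card f.range ≤ 2 := (Nat.le_of_dvd Nat.card_pos (card_subgroup_dvd_card _)).trans h2.le
      have hne : Nat.card f.range ≠ 1 := fun h1 => hkZ (by
        have hk' : M' = ⊤ := by rw [hM', ← index_eq_one, Subgroup.index_ker]; exact h1
        exact mem_center_iff.2 fun g => ((hMmem g).1 (by rw [hk']; exact mem_top g)).symm)
      have : Nat.card f.range = 2 := by
        have : 0 < Nat.card f.range := Nat.card_pos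
        omega
      rw [this] at hmul
      rw [hM']
      omega
    set M := M'.map (T : Subgroup G).subtype with hM
    have hMcard : Nat.card M = 8 := by
      rw [← hM8]
      exact (Nat.card_congr (M'.equivMapOfInjective _ (T : Subgroup G).subtype_injective).toEquiv).symm
    have hck : c k = k := Subtype.ext (by
      show u * (k : G) * u⁻¹ = k
      have h := hKfix (k : G) ⟨k, hk, rfl⟩
      rw [← h.eq, mul_inv_cancel_right])
    have hMinv : ∀ x ∈ M, u * x * u⁻¹ ∈ M := by
      rintro _ ⟨x, hx, rfl⟩
      refine ⟨c x, (hMmem _).2 ?_, rfl⟩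
      show k * c x = c x * k
      conv_lhs => rw [← hck]
      conv_rhs => rw [← hck]
      rw [← hc_mul, ← hc_mul, ((hMmem x).1 hx).eq]
    have hKM : K' ≤ M' := by
      intro x hx
      rw [hMmem]
      -- `K'` has order four
      exact congrArg Subtype.val (IsPGroup.commutative_of_card_eq_prime_sq (p := 2) (G := K')
        (by rw [hKc]; norm_num) ⟨k, hk⟩ ⟨x, hx⟩)
    have hMfix : ∀ x ∈ M, Commute x u := by
      refine inf_centralizer_eq_self ?_
      have hm := hmod M hMinv
      have h4' : 4 ≤ Nat.card ↥(M ⊓ centralizer ({u} : Set G)) := by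
        rw [← hKcard]
        exact Nat.le_of_dvd Nat.card_pos (card_dvd_of_le (le_inf (map_mono hKM)
          fun x hx => mem_centralizer_singleton_iff.2 (hKfix x hx).eq))
      have hd := hdvd M
      have hle := Nat.le_of_dvd Nat.card_pos hd
      rw [hMcard] at hm hd hle ⊢
      interval_cases Nat.card ↥(M ⊓ centralizer ({u} : Set G)) <;> omega
    refine inf_centralizer_eq_self ?_
    have hm := hmod (T : Subgroup G) hconjT
    have h8 : 8 ≤ Nat.card F := by
      rw [← hMcard]
      exact Nat.le_of_dvd Nat.card_pos (card_dvd_of_le (le_inf (map_subtype_le _)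
        fun x hx => mem_centralizer_singleton_iff.2 (hMfix x hx).eq))
    have hd := hdvd (T : Subgroup G)
    have hle := Nat.le_of_dvd Nat.card_pos hd
    rw [hP] at hm hd hle ⊢
    change 16 ≤ Nat.card F
    change _ ∣ _ at hd
    interval_cases hh : Nat.card F <;> omega
  · -- centre of order 4
    by_cases hall : Nat.card F = 16
    · exact inf_centralizer_eq_self (by rw [hP]; exact hall.ge)
    exfalso
    have hF4 : Nat.card F = 4 := by
      have hm := hmod (T : Subgroup G) hconjT
      have h4' : 4 ∣ Nat.card F := h4 ▸ hZc ▸ card_dvd_of_le hZF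
      have hd := hdvd (T : Subgroup G)
      have hle := Nat.le_of_dvd Nat.card_pos hd
      rw [hP] at hm hd hle
      change Nat.card F % 3 = 16 % 3 at hm
      change Nat.card F ∣ 16 at hd
      change Nat.card F ≤ 16 at hle
      interval_cases hh : Nat.card F <;> omega
    have hFZ : F = Z := (eq_of_le_of_card_ge hZF (by rw [hF4, hZc, h4])).symm
    obtain ⟨cc, -, -, -, -, -, -, hsq⟩ := exists_unique_commutator hP (not_comm_sylow hG T) h4.ge
    -- an element of order 4 in the centre
    obtain ⟨f, hf, hf2⟩ : ∃ f ∈ center ↥(T : Subgroup G), f * f ≠ 1 := by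
      by_contra! h
      have h3 : 3 ≤ Nat.card (center ↥(T : Subgroup G)) := by omega
      obtain ⟨v, hv, hv1, hvt⟩ : ∃ v ∈ center ↥(T : Subgroup G), v ≠ 1 ∧ v ≠ ⟨t, htT'⟩ := by
        by_contra! hcon
        have : Nat.card (center ↥(T : Subgroup G)) ≤ 2 := by
          refine le_trans (Nat.card_le_card_of_surjective (fun b : Bool =>
            if b then (⟨⟨t, htT'⟩, mem_center_iff.2 fun w => Subtype.ext (htT w w.2)⟩ : center ↥(T : Subgroup G)) else 1)
              fun w => ?_) (by simp)
          by_cases hw : (w : ↥(T : Subgroup G)) = 1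
          · exact ⟨false, Subtype.ext (by simp [hw])⟩
          · exact ⟨true, Subtype.ext (by simp [hcon w w.2 hw])⟩
        omega
      exact hvt (central_unique hG T v ⟨t, htT'⟩ hv (mem_center_iff.2 fun w => Subtype.ext (htT w w.2))
        (h v hv) (Subtype.ext ht2) hv1 (fun e => ht1 (congrArg Subtype.val e)))
    have hsqZ : ∀ z : ↥(T : Subgroup G), z ∈ center ↥(T : Subgroup G) → z * z = 1 → z = 1 ∨ z = ⟨t, htT'⟩ := fun z hz hz2 => by
      by_cases h1 : z = 1
      · exact Or.inl h1
      · exact Or.inr (central_unique hG T z ⟨t, htT'⟩ hz (mem_center_iff.2 fun w => Subtype.ext (htT w w.2))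
          hz2 (Subtype.ext ht2) h1 (fun e => ht1 (congrArg Subtype.val e)))
    have hz4 : ∀ z : ↥(T : Subgroup G), z ∈ center ↥(T : Subgroup G) → (z * z) * (z * z) = 1 := by
      intro z hz
      have := pow_card_eq_one' (x := (⟨z, hz⟩ : center ↥(T : Subgroup G)))
      rw [h4] at this
      have h' := congrArg Subtype.val this
      simp only [SubmonoidClass.coe_pow, OneMemClass.coe_one] at h'
      rw [← h']; simp only [pow_succ, pow_zero, one_mul, mul_assoc]
    have hft : f * f = ⟨t, htT'⟩ := (hsqZ _ (mul_mem hf hf) (hz4 f hf)).resolve_left hf2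
    have hzsq : ∀ z : ↥(T : Subgroup G), z ∈ center ↥(T : Subgroup G) → z * z = 1 ∨ z * z = ⟨t, htT'⟩ := fun z hz =>
      hsqZ _ (mul_mem hz hz) (hz4 z hz)
    obtain ⟨v, hvT, hv2, hv1, hvt⟩ := exists_other hG T t
    by_cases hsquares : ∀ x : ↥(T : Subgroup G), x * x = 1 ∨ x * x = ⟨t, htT'⟩
    · -- transport to the centraliser of `v`
      obtain ⟨g, hg⟩ := isConj_iff.1 (isConj_of_involutions hG ht1 (by rw [pow_two]; exact ht2) hv1
        (by rw [pow_two]; exact hv2))
      have hfC : g⁻¹ * (f : G) * g ∈ C := by
        have hfv : (f : G) * v = v * f :=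
          (congrArg Subtype.val (mem_center_iff.1 hf ⟨v, hvT⟩)).symm
        refine mem_centralizer_singleton_iff.2 ?_
        rw [show g⁻¹ * (f : G) * g * t = g⁻¹ * ((f : G) * (g * t * g⁻¹)) * g by group, hg, hfv, ← hg]
        group
      have hmem : g⁻¹ * (f : G) * g ∈ (T : Subgroup G) := by
        have h2g : IsPGroup 2 (zpowers (g⁻¹ * (f : G) * g)) := by
          refine IsPGroup.of_card (n := 2) ?_
          rw [Nat.card_zpowers, show g⁻¹ * (f : G) * g = MulAut.conj g⁻¹ (f : G) by simp,
            MulEquiv.orderOf_eq, Subgroup.orderOf_coe]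
          refine orderOf_eq_prime_pow (n := 1) (fun h => hf2 ?_) ?_
          · rw [← pow_two]; simpa using h
          · show f ^ 4 = 1
            rw [show f ^ 4 = f * f * (f * f) by simp only [pow_succ, pow_zero, one_mul, mul_assoc]]
            exact hz4 f hf
        have hle := h2g.to_sup_of_normal_right' T.2 ((zpowers_le.2 hfC).trans hn)
        have hsup := T.3 hle le_sup_right
        have hin := le_sup_left (a := zpowers (g⁻¹ * (f : G) * g)) (b := (T : Subgroup G)) (mem_zpowers _)
        rw [hsup] at hin
        exact hin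
      have hsq' := hsquares ⟨_, hmem⟩
      have hval : g⁻¹ * (f : G) * g * (g⁻¹ * (f : G) * g) = g⁻¹ * t * g := by
        rw [show g⁻¹ * (f : G) * g * (g⁻¹ * (f : G) * g) = g⁻¹ * ((f : G) * f) * g by group,
          show (f : G) * f = t from congrArg Subtype.val hft]
      rcases hsq' with h | h
      · have h' := congrArg Subtype.val h
        simp only [Subgroup.coe_mul, OneMemClass.coe_one] at h'
        rw [hval] at h'
        exact ht1 (by rw [show t = g * (g⁻¹ * t * g) * g⁻¹ by group, h']; group)
      · have h' := congrArg Subtype.val h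
        simp only [Subgroup.coe_mul] at h'
        rw [hval] at h'
        exact hvt (by rw [← hg]; nth_rw 1 [← h']; group)
    push Not at hsquares
    obtain ⟨x, hx1, hxt⟩ := hsquares
    -- every element outside the centre has such a square, so there is no second involution
    have hxZ : x ∉ center ↥(T : Subgroup G) := fun h => (hzsq x h).elim hx1 hxt
    have hcZ : ∀ a : ↥(T : Subgroup G), a ∉ center ↥(T : Subgroup G) → c a ∉ center ↥(T : Subgroup G) ∧ a⁻¹ * c a ∉ center ↥(T : Subgroup G) := by
      intro a ha
      refine ⟨fun h => ha ?_, fun h => ha ?_⟩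
      · have h' := hc_cen _ (hc_cen _ h)
        have e : c (c (c a)) = a := Subtype.ext (by
          show u * (u * (u * (a : G) * u⁻¹) * u⁻¹) * u⁻¹ = a
          rw [show u * (u * (u * (a : G) * u⁻¹) * u⁻¹) * u⁻¹ = u ^ 3 * a * (u ^ 3)⁻¹ by simp only [pow_succ, pow_zero]; group, hu3]; simp)
        rwa [e] at h'
      · set z := a⁻¹ * c a with hz
        have hzfix : c z = z := Subtype.ext (by
          show u * (z : G) * u⁻¹ = z
          exact hZfix' z h)
        have e1 : c a = a * z := by rw [hz]; group
        have e3 : a = a * z * z * z := by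
          have e : c (c (c a)) = a := Subtype.ext (by
            show u * (u * (u * (a : G) * u⁻¹) * u⁻¹) * u⁻¹ = a
            rw [show u * (u * (u * (a : G) * u⁻¹) * u⁻¹) * u⁻¹ = u ^ 3 * a * (u ^ 3)⁻¹ by simp only [pow_succ, pow_zero]; group, hu3]; simp)
          conv_lhs => rw [← e]
          rw [e1, hc_mul, hzfix, e1, hc_mul, hc_mul, hzfix, e1]
        have hz3 : z * z * z = 1 := by
          have := e3.symm
          simp only [mul_assoc] at this ⊢
          exact mul_eq_left.1 this
        have hz1 : z = 1 := by
          have := hz4 z h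
          have : z * z * z * z = 1 := by rw [← this]; group
          rwa [hz3, one_mul] at this
        rw [hz1, mul_one] at e1
        have : (a : G) ∈ F := ⟨a.2, mem_centralizer_singleton_iff.2 (by
          have := congrArg Subtype.val e1
          exact (mul_inv_eq_iff_eq_mul.1 this).symm)⟩
        rw [hFZ] at this
        obtain ⟨a', ha', hae⟩ := this
        rwa [Subtype.ext (show (a' : G) = (a : G) from hae)] at ha'
    have hbad : ∀ w : ↥(T : Subgroup G), w ∉ center ↥(T : Subgroup G) → w * w ≠ 1 := by
      intro w hw hw2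
      have hq := Subgroup.card_eq_card_quotient_mul_card_subgroup (center ↥(T : Subgroup G))
      rw [hP, h4] at hq
      have hcover : ∃ y ∈ [x, c x, c (c x)], y⁻¹ * w ∈ center ↥(T : Subgroup G) := by
        by_contra! hcon
        have := Fintype.ofFinite (↥(T : Subgroup G) ⧸ center ↥(T : Subgroup G))
        have hcard : Fintype.card (↥(T : Subgroup G) ⧸ center ↥(T : Subgroup G)) = 4 := by rw [← Nat.card_eq_fintype_card]; omega
        have hnd : ([(1 : ↥(T : Subgroup G)), x, c x, c (c x), w].map (QuotientGroup.mk : ↥(T : Subgroup G) → ↥(T : Subgroup G) ⧸ center ↥(T : Subgroup G))).Nodup := by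
          simp only [List.map_cons, List.map_nil, List.nodup_cons, List.mem_cons, List.not_mem_nil,
            or_false, not_or, QuotientGroup.eq, inv_one, one_mul, List.nodup_nil, and_true]
          refine ⟨⟨hxZ, (hcZ x hxZ).1, (hcZ _ (hcZ x hxZ).1).1, hw⟩,
            ⟨(hcZ x hxZ).2, ?_, hcon x (by simp)⟩, ⟨(hcZ _ (hcZ x hxZ).1).2, hcon _ (by simp)⟩,
            hcon _ (by simp), not_false⟩
          intro h
          have h' := hc_cen _ h
          rw [hc_mul, show c x⁻¹ = (c x)⁻¹ from Subtype.ext (by simp [c]; group)] at h'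
          have e : c (c (c x)) = x := Subtype.ext (by
            show u * (u * (u * (x : G) * u⁻¹) * u⁻¹) * u⁻¹ = x
            rw [show u * (u * (u * (x : G) * u⁻¹) * u⁻¹) * u⁻¹ = u ^ 3 * x * (u ^ 3)⁻¹ by simp only [pow_succ, pow_zero]; group, hu3]; simp)
          rw [e] at h'
          have := inv_mem h'
          rw [mul_inv_rev, inv_inv] at this
          exact (hcZ x hxZ).2 this
        have := hnd.length_le_card
        rw [hcard] at this
        simp at this
      obtain ⟨y, hy, hyw⟩ := hcover
      have hy2 : y * y ≠ 1 ∧ y * y ≠ ⟨t, htT'⟩ := by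
        have hcx : ∀ a : ↥(T : Subgroup G), a * a ∈ center ↥(T : Subgroup G) → c a * c a = a * a := fun a ha => by
          rw [← hc_mul]
          exact Subtype.ext (by
            show u * ((a * a : ↥(T : Subgroup G)) : G) * u⁻¹ = ((a * a : ↥(T : Subgroup G)) : G)
            exact hZfix' _ ha)
        simp only [List.mem_cons, List.not_mem_nil, or_false] at hy
        rcases hy with rfl | rfl | rfl
        · exact ⟨hx1, hxt⟩
        · rw [hcx x (hsq x)]; exact ⟨hx1, hxt⟩
        · rw [hcx _ (hsq _), hcx x (hsq x)]; exact ⟨hx1, hxt⟩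
      obtain ⟨z, hz, rfl⟩ : ∃ z ∈ center ↥(T : Subgroup G), w = y * z := ⟨_, hyw, by group⟩
      rw [show y * z * (y * z) = y * y * (z * z) by
        rw [mul_assoc y z, ← mul_assoc z y, ← mem_center_iff.1 hz y]; group] at hw2
      rcases hzsq z hz with h | h <;> rw [h] at hw2
      · exact hy2.1 (by simpa using hw2)
      · exact hy2.2 ((eq_inv_of_mul_eq_one_left hw2).trans
          (inv_eq_of_mul_eq_one_right (Subtype.ext ht2)))
    have hvc : (⟨v, hvT⟩ : ↥(T : Subgroup G)) ∈ center ↥(T : Subgroup G) := by
      by_contra h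
      exact hbad _ h (Subtype.ext hv2)
    rcases hsqZ _ hvc (Subtype.ext hv2) with h | h
    · exact hv1 (congrArg Subtype.val h)
    · exact hvt (congrArg Subtype.val h)

end CfsgLib.SmallSimple.L33
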