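import Cfsg.Agent.Lib.SmallSimple.L33.Involution
import Cfsg.Agent.Lib.PermChar.Degrees
import Mathlib.GroupTheory.GroupAction.Quotient

/-!
A simple group of order 5616: a subgroup of index 13 has no normal subgroup of order 3 centralised by an
involution.
-/

set_option autoImplicit false

namespace CfsgLib.SmallSimple.L33

open Subgroup MulAction

universe u

variable {G : Type u} [Group G] [Fintype G] [IsSimpleGroup G]

theorem pow_three_cases {u x : G} (hu : orderOf u = 3) (hx : x ∈ zpowers u) :
    x = 1 ∨ x = u ∨ x = u ^ 2 := by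
  classical
  rw [IsOfFinOrder.mem_zpowers_iff_mem_range_orderOf (isOfFinOrder_of_finite u), hu] at hx
  simp only [Finset.mem_image, Finset.mem_range] at hx
  obtain ⟨k, hk, rfl⟩ := hx
  interval_cases k <;> simp

theorem false_of_index_thirteen (hG : Nat.card G = 5616) (H : Subgroup G) (hH : H.index = 13)
    {t u : G} (ht1 : t ≠ 1) (ht2 : t ^ 2 = 1) (htH : t ∈ H) (hu : orderOf u = 3) (huH : u ∈ H)
    (hcomm : Commute t u) (hnorm : ∀ h ∈ H, h * u * h⁻¹ ∈ zpowers u) : False := by
  classical
  obtain ⟨B⟩ := exists_block hG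
  set Ω := G ⧸ H
  have := Fintype.ofFinite Ω
  have hΩ : Fintype.card Ω = 13 := by rw [← Nat.card_eq_fintype_card, ← hH]; rfl
  obtain ⟨α, hαdef⟩ : ∃ α : Ω, α = QuotientGroup.mk 1 := ⟨_, rfl⟩
  have hstab : ∀ g : G, g • α = α ↔ g ∈ H := fun g => by
    subst hαdef
    show ((g * 1 : G) : G ⧸ H) = ((1 : G) : G ⧸ H) ↔ g ∈ H
    rw [QuotientGroup.eq, mul_one, mul_one, inv_mem_iff]
  -- the permutation character is `1 + a`
  have hmp := PermChar.mult_principal (G := G) (Ω := Ω)
  have hsum := PermChar.sum_mult_degree (G := G) (Ω := Ω)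
  rw [hΩ, ← Finset.add_sum_erase _ _ (Finset.mem_univ Char.principalIrr), hmp, principal_degree] at hsum
  have hzero : ∀ χ ∈ Finset.univ.erase (Char.principalIrr : Cfsg.IrrCharacter G), χ ≠ B.a →
      PermChar.mult Ω χ.1 = 0 := by
    intro χ hχ hne
    by_contra h0
    refine hne (B.small χ (Finset.ne_of_mem_erase hχ) ?_)
    have h1 := Finset.single_le_sum (f := fun φ : Cfsg.IrrCharacter G =>
      PermChar.mult Ω φ.1 * Char.degree φ.1) (fun _ _ => Nat.zero_le _) hχ
    have h2 : Char.degree χ.1 ≤ PermChar.mult Ω χ.1 * Char.degree χ.1 :=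
      Nat.le_mul_of_pos_left _ (Nat.pos_of_ne_zero h0)
    omega
  have haE : B.a ∈ Finset.univ.erase (Char.principalIrr : Cfsg.IrrCharacter G) :=
    Finset.mem_erase.2 ⟨B.hne.1, Finset.mem_univ _⟩
  rw [Finset.sum_eq_single_of_mem B.a haE (fun χ hχ hne => by rw [hzero χ hχ hne, zero_mul]),
    B.ha] at hsum
  have hma : PermChar.mult Ω B.a.1 = 1 := by omega
  have hrest : ∀ χ ∈ Finset.univ \ ({Char.principalIrr, B.a} : Finset (Cfsg.IrrCharacter G)),
      PermChar.mult Ω χ.1 = 0 := fun χ hχ => by
    simp only [Finset.mem_sdiff, Finset.mem_univ, Finset.mem_insert, Finset.mem_singleton,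
      true_and, not_or] at hχ
    exact hzero χ (Finset.mem_erase.2 ⟨hχ.1, Finset.mem_univ _⟩) hχ.2
  -- two orbits of the stabiliser
  have hrank : Nat.card (orbitRel.Quotient (stabilizer G α) Ω) = 2 := by
    have h := PermChar.sum_mult_sq (G := G) α
    rw [← Finset.sum_sdiff (Finset.subset_univ ({Char.principalIrr, B.a} : Finset (Cfsg.IrrCharacter G))),
      Finset.sum_eq_zero (fun χ hχ => by rw [hrest χ hχ, zero_mul]),
      Finset.sum_pair B.hne.1.symm, hmp, hma] at h
    exact h.symm.trans (by norm_num)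
  -- five fixed points of `t`
  have hfix : Fintype.card (fixedBy Ω t) = 5 := by
    have h := congrFun (PermChar.piFun_eq_sum (G := G) (Ω := Ω)) t
    rw [Finset.sum_apply, ← Finset.sum_sdiff (Finset.subset_univ
      ({Char.principalIrr, B.a} : Finset (Cfsg.IrrCharacter G))),
      Finset.sum_eq_zero (fun χ hχ => by rw [hrest χ hχ]; simp),
      Finset.sum_pair B.hne.1.symm, hmp, hma] at h
    simp only [Nat.cast_one, one_smul, Pi.smul_apply, Char.principalIrr_apply,
      (B.values hG ht1 ht2).1, PermChar.piFun, Nat.card_eq_fintype_card] at h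
    norm_num at h
    rw [Fintype.card_subtype]
    exact_mod_cast h
  -- `u` has a unique fixed point
  have hufix : ∀ β : Ω, u • β = β → β = α := by
    intro β hβ
    by_contra hne
    have hall : ∀ γ : Ω, γ ≠ α → u • γ = γ := by
      intro γ hγ
      have hor : (Quotient.mk'' γ : orbitRel.Quotient (stabilizer G α) Ω) = Quotient.mk'' β := by
        by_contra hcon
        have hαne : ∀ δ : Ω, δ ≠ α →
            (Quotient.mk'' δ : orbitRel.Quotient (stabilizer G α) Ω) ≠ Quotient.mk'' α := by
          intro δ hδ h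
          obtain ⟨g, hg⟩ := orbitRel_apply.1 (Quotient.eq''.1 h)
          have hgα : (g : G) • α = α := g.2
          exact hδ (hg.symm.trans hgα)
        have := Fintype.ofFinite (orbitRel.Quotient (stabilizer G α) Ω)
        have h3 := Finset.card_le_univ ({Quotient.mk'' α, Quotient.mk'' β, Quotient.mk'' γ} :
          Finset (orbitRel.Quotient (stabilizer G α) Ω))
        rw [Finset.card_insert_of_notMem (by simp [(hαne β hne).symm, (hαne γ hγ).symm]),
          Finset.card_pair (Ne.symm hcon), ← Nat.card_eq_fintype_card, hrank] at h3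
        omega
      obtain ⟨g, hg⟩ := orbitRel_apply.1 (Quotient.eq''.1 hor)
      rw [← hg]
      have hgH : (g : G) ∈ H := (hstab _).1 g.2
      have hfixpow : ∀ w ∈ zpowers u, w • β = β := fun w hw =>
        (zpowers_le.2 (mem_stabilizer_iff.2 hβ) : zpowers u ≤ stabilizer G β) hw
      change u • (g : G) • β = (g : G) • β
      have hw := hnorm _ (H.inv_mem hgH)
      rw [inv_inv] at hw
      rw [smul_smul, show u * (g : G) = (g : G) * ((g : G)⁻¹ * u * g) by group, mul_smul,
        hfixpow _ hw]
    have htriv : ∀ γ : Ω, u • γ = γ := fun γ => by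
      by_cases h : γ = α
      · rw [h]; exact (hstab u).2 huH
      · exact hall γ h
    have hker : u ∈ H.normalCore := by
      rw [Subgroup.normalCore_eq_ker, MonoidHom.mem_ker]
      exact Equiv.ext htriv
    have hbot : H.normalCore = ⊥ := (H.normalCore_normal).eq_bot_or_eq_top.resolve_right fun h => by
      have : H = ⊤ := top_le_iff.1 (h ▸ H.normalCore_le)
      rw [this, index_top] at hH
      omega
    rw [hbot, mem_bot] at hker
    rw [hker, orderOf_one] at hu
    omega
  -- `⟨u⟩` acts on the five points fixed by `t`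
  have hinv : ∀ w ∈ zpowers u, ∀ γ : Ω, t • γ = γ → t • w • γ = w • γ := by
    intro w hw γ hγ
    obtain ⟨k, rfl⟩ := mem_zpowers_iff.1 hw
    rw [smul_smul, (hcomm.zpow_right k).eq, mul_smul, hγ]
  let act : MulAction (zpowers u) (fixedBy Ω t) :=
    { smul := fun w γ => ⟨(w : G) • (γ : Ω), hinv w w.2 γ γ.2⟩
      one_smul := fun γ => Subtype.ext (one_smul G (γ : Ω))
      mul_smul := fun w w' γ => Subtype.ext (mul_smul (w : G) (w' : G) (γ : Ω)) }
  have : Fact (Nat.Prime 3) := ⟨Nat.prime_three⟩
  have hP : IsPGroup 3 (zpowers u) := IsPGroup.of_card (n := 1) (by rw [Nat.card_zpowers, hu, pow_one])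
  have hmod := hP.card_modEq_card_fixedPoints (fixedBy Ω t)
  have hone : Nat.card (MulAction.fixedPoints (zpowers u) (fixedBy Ω t)) = 1 := by
    rw [Nat.card_eq_one_iff_exists]
    refine ⟨⟨⟨α, (hstab t).2 htH⟩, fun w => Subtype.ext ?_⟩, fun γ => Subtype.ext (Subtype.ext ?_)⟩
    · obtain ⟨k, hk⟩ := mem_zpowers_iff.1 w.2
      show (w : G) • α = α
      exact (hstab _).2 (hk ▸ H.zpow_mem huH k)
    · exact hufix _ (congrArg Subtype.val (γ.2 ⟨u, mem_zpowers u⟩))
  rw [hone, Nat.card_eq_fintype_card, hfix] at hmod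
  exact absurd hmod (by decide)

end CfsgLib.SmallSimple.L33
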