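import Cfsg.Agent.Lib.SmallSimple.L33.Values
import Cfsg.Agent.Lib.Char.Integral

/-!
A simple group of order 5616: one class of involutions, with centralisers of order 48.
-/

set_option autoImplicit false

open scoped ComplexConjugate

namespace CfsgLib.SmallSimple.L33

open Subgroup CfsgLib.SmallOrder

universe u

variable {G : Type u} [Group G] [Fintype G] [IsSimpleGroup G]

theorem exists_int_value (hG : Nat.card G = 5616) (χ : Cfsg.IrrCharacter G)
    (hχ : χ ≠ Char.principalIrr) {y : G} (hy1 : y ≠ 1) (hy2 : y ^ 2 = 1) :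
    ∃ z ∈ bVals (Char.degree χ.1), χ.1 y = (z : ℂ) := by
  obtain ⟨m, hm, h0, hlt, hval⟩ := exists_involution_value (not_comm hG) hχ hy1 hy2
  exact ⟨_, mem_bVals hm h0 hlt, hval⟩

theorem real_value {y : G} (hy2 : y ^ 2 = 1) (χ : Cfsg.IrrCharacter G) :
    conj (χ.1 y) = χ.1 y := by
  have hyinv : y⁻¹ = y := inv_eq_of_mul_eq_one_right (by rw [← pow_two]; exact hy2)
  rw [← Char.IsIrrCharacter.apply_inv χ.2, hyinv]

theorem not_thirteen_dvd_centralizer (hG : Nat.card G = 5616) {y : G} (hy1 : y ≠ 1)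
    (hy2 : y ^ 2 = 1) : ¬ 13 ∣ Nat.card ↥(centralizer ({y} : Set G)) := by
  intro h
  have : Fact (Nat.Prime 13) := ⟨by norm_num⟩
  obtain ⟨⟨z, hz⟩, hord⟩ := exists_prime_orderOf_dvd_card' 13 h
  rw [Subgroup.orderOf_mk] at hord
  obtain ⟨P, hP⟩ := exists_sylow_eq (p := 13) (m := 432) (by rw [hG]) (by norm_num)
    (S := zpowers z) (by rw [Nat.card_zpowers, hord])
  obtain ⟨hC, -⟩ := sylow_thirteen hG P
  have hyC : y ∈ centralizer ((P : Subgroup G) : Set G) := by
    refine mem_centralizer_iff.2 fun x hx => ?_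
    rw [hP] at hx
    obtain ⟨k, rfl⟩ := mem_zpowers_iff.1 hx
    exact (Commute.zpow_left (mem_centralizer_singleton_iff.1 hz) k).eq
  have := Subgroup.orderOf_dvd_natCard _ hyC
  rw [orderOf_eq_prime hy2 hy1, hC] at this
  norm_num at this

theorem class_dvd (χ : Cfsg.IrrCharacter G) {y : G} {z : ℤ} (hz : χ.1 y = (z : ℂ)) :
    (Char.degree χ.1 : ℤ) ∣ ((centralizer ({y} : Set G)).index : ℤ) * z := by
  obtain ⟨n, ρ, hρ, hχ⟩ := χ.2
  have h := Char.isIntegral_index_mul_char_div ρ y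
  rw [show ρ.character y = (z : ℂ) by rw [← hz, ← hχ]] at h
  have hd : Char.degree χ.1 = Module.finrank ℂ (Fin n → ℂ) := by
    rw [← hχ, Char.degree_character]
  have hpos := Char.IsIrrCharacter.degree_pos χ.2
  rw [← hd] at h
  obtain ⟨m, hm⟩ := Char.exists_int_of_isIntegral_ratCast
    (q := (((centralizer ({y} : Set G)).index : ℚ) * z / (Char.degree χ.1 : ℚ))) (by push_cast; exact h)
  refine ⟨m, ?_⟩
  rw [eq_div_iff (Nat.cast_ne_zero.2 hpos.ne')] at hm
  rw [mul_comm (Char.degree χ.1 : ℤ)]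
  exact_mod_cast hm.symm

namespace Block

variable (B : Block G)

omit [IsSimpleGroup G] in
theorem ne_ab : B.a ≠ B.b ∧ B.a ≠ B.x ∧ B.b ≠ B.x := by
  refine ⟨fun h => ?_, fun h => ?_, fun h => ?_⟩
  · have := B.ha; rw [h, B.hb] at this; omega
  · have := B.ha; rw [h, B.hx] at this; omega
  · have := B.hb; rw [h, B.hx] at this; omega

omit [IsSimpleGroup G] in
theorem sum_split (f : Cfsg.IrrCharacter G → ℂ) : ∃ R : Finset (Cfsg.IrrCharacter G),
    (∀ χ ∈ R, χ ≠ Char.principalIrr) ∧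
      ∀ g : Cfsg.IrrCharacter G → ℂ, ∑ χ, g χ = g Char.principalIrr + g B.a + g B.b + g B.x +
        ∑ χ ∈ R, g χ := by
  classical
  obtain ⟨hab, hax, hbx⟩ := B.ne_ab
  obtain ⟨h1, h2, h3⟩ := B.hne
  refine ⟨Finset.univ \ {Char.principalIrr, B.a, B.b, B.x}, fun χ hχ h => ?_, fun g => ?_⟩
  · simp [h] at hχ
  rw [← Finset.sum_sdiff (Finset.subset_univ ({Char.principalIrr, B.a, B.b, B.x} : Finset _)),
    Finset.sum_insert (by simp [h1.symm, h2.symm, h3.symm]),
    Finset.sum_insert (by simp [hab, hax]), Finset.sum_pair hbx]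
  ring

theorem values (hG : Nat.card G = 5616) {y : G} (hy1 : y ≠ 1) (hy2 : y ^ 2 = 1) :
    B.a.1 y = 4 ∧ B.b.1 y = 3 ∧ B.x.1 y = 0 ∧ Nat.card ↥(centralizer ({y} : Set G)) = 48 := by
  classical
  obtain ⟨za, hza, ea⟩ := exists_int_value hG B.a B.hne.1 hy1 hy2
  obtain ⟨zb, hzb, eb⟩ := exists_int_value hG B.b B.hne.2.1 hy1 hy2
  obtain ⟨zx, hzx, ex⟩ := exists_int_value hG B.x B.hne.2.2 hy1 hy2
  rw [B.ha] at hza
  rw [B.hb] at hzb
  rw [B.hx] at hzx
  have hl := B.lin y (by rw [orderOf_eq_prime hy2 hy1]; norm_num)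
  have hq := B.quad y hy1 hy2
  rw [ea, eb, ex] at hl hq
  have q1 : -1 + za - zb + zx = 0 := by
    apply Int.cast_injective (α := ℂ)
    push_cast
    linear_combination hl
  have q2 : -432 + 36 * (za * za) - 16 * (zb * zb) + 27 * (zx * zx) = 0 := by
    apply Int.cast_injective (α := ℂ)
    push_cast
    linear_combination (432 : ℂ) * hq
  have hcheck : ((bVals 12).all fun za => (bVals 27).all fun zb => (bVals 16).all fun zx =>
      !(decide (-1 + za - zb + zx = 0) &&
        decide (-432 + 36 * (za * za) - 16 * (zb * zb) + 27 * (zx * zx) = 0)) ||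
      (decide (za = 4) && decide (zb = 3) && decide (zx = 0) ||
        (decide (zb = -9) || decide (zb = 15)) && decide (zx * zx = 64))) = true := by decide +kernel
  have hA := List.all_eq_true.1 (List.all_eq_true.1 (List.all_eq_true.1 hcheck za hza) zb hzb) zx hzx
  simp only [q1, q2, decide_true, Bool.and_self, Bool.not_true, Bool.false_or, Bool.and_eq_true,
    Bool.or_eq_true, decide_eq_true_eq] at hA
  set c := Nat.card ↥(centralizer ({y} : Set G)) with hc
  obtain ⟨R, -, hR⟩ := B.sum_split (fun _ => 0)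
  have hlow : 1 + za * za + zb * zb + zx * zx ≤ (c : ℤ) := by
    have hnorm := Char.sum_mul_conj (G := G) y y
    rw [if_pos (IsConj.refl y), hR] at hnorm
    simp only [Char.principalIrr_apply, ea, eb, ex, map_one, map_intCast, ← hc] at hnorm
    have h := congrArg Complex.re hnorm
    simp only [Complex.mul_conj, Complex.add_re, Complex.mul_re, Complex.re_sum, Complex.ofReal_re,
      Complex.intCast_re, Complex.intCast_im, Complex.one_re, Complex.natCast_re] at h
    have hnn : 0 ≤ ∑ χ ∈ R, Complex.normSq (χ.1 y) :=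
      Finset.sum_nonneg fun χ _ => Complex.normSq_nonneg _
    have : ((1 + za * za + zb * zb + zx * zx : ℤ) : ℝ) ≤ ((c : ℤ) : ℝ) := by
      push_cast
      simp only [mul_zero, sub_zero, Complex.one_im] at h
      linarith
    exact_mod_cast this
  have hidx : (c : ℤ) * ((centralizer ({y} : Set G)).index : ℤ) = 5616 := by
    exact_mod_cast (Subgroup.card_mul_index (centralizer ({y} : Set G))).trans hG
  have h13 : ¬ (13 : ℤ) ∣ (c : ℤ) := fun h => not_thirteen_dvd_centralizer hG hy1 hy2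
    (Int.natCast_dvd_natCast.1 (by exact_mod_cast h))
  rcases hA with ⟨⟨rfl, rfl⟩, rfl⟩ | ⟨hb9, hx64⟩
  · refine ⟨by rw [ea]; norm_num, by rw [eb]; norm_num, by rw [ex]; norm_num, ?_⟩
    have d2 := class_dvd B.b eb
    rw [B.hb] at d2
    have h9 : (9 : ℤ) ∣ ((centralizer ({y} : Set G)).index : ℤ) := by push_cast at d2; omega
    obtain ⟨j, hj⟩ := h9
    rw [hj] at hidx
    have hdvd : (c : ℤ) ∣ 624 := ⟨j, by linarith⟩
    have hd : c ∣ 624 := Int.natCast_dvd_natCast.1 hdvd
    have h13' : ¬ 13 ∣ c := fun h => h13 (by exact_mod_cast Int.natCast_dvd_natCast.2 h)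
    have hc26 : 26 ≤ c := by omega
    have hle := Nat.le_of_dvd (by norm_num) hd
    have key : ∀ m ∈ Nat.divisors 624, 26 ≤ m → ¬ 13 ∣ m → m = 48 := by decide +kernel
    exact key c (Nat.mem_divisors.2 ⟨hd, by norm_num⟩) hc26 h13'
  · exfalso
    have d1 := class_dvd B.b eb
    have d2 := class_dvd B.x ex
    rw [B.hb] at d1
    rw [B.hx] at d2
    push_cast at d1 d2
    have h3 : (3 : ℤ) ∣ ((centralizer ({y} : Set G)).index : ℤ) := by
      rcases hb9 with rfl | rfl <;> omega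
    have hb81 : 81 ≤ zb * zb := by rcases hb9 with rfl | rfl <;> norm_num
    have hx8 : zx = 8 ∨ zx = -8 := by
      have : (zx - 8) * (zx + 8) = 0 := by linear_combination hx64
      rcases mul_eq_zero.1 this with h | h <;> omega
    have h6 : (6 : ℤ) ∣ ((centralizer ({y} : Set G)).index : ℤ) := by
      rcases hx8 with rfl | rfl <;> omega
    obtain ⟨j, hj⟩ := h6
    rw [hj] at hidx
    have hd : c ∣ 936 := Int.natCast_dvd_natCast.1 (⟨j, by push_cast; linarith⟩ : (c : ℤ) ∣ ((936 : ℕ) : ℤ))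
    have h13' : ¬ 13 ∣ c := fun h => h13 (by exact_mod_cast Int.natCast_dvd_natCast.2 h)
    have hc : 146 ≤ c := by
      have := mul_self_nonneg za
      omega
    have key : ∀ m ∈ Nat.divisors 936, 146 ≤ m → 13 ∣ m := by decide +kernel
    exact h13' (key c (Nat.mem_divisors.2 ⟨hd, by norm_num⟩) hc)

end Block

theorem card_centralizer (hG : Nat.card G = 5616) {y : G} (hy1 : y ≠ 1) (hy2 : y ^ 2 = 1) :
    Nat.card ↥(centralizer ({y} : Set G)) = 48 := by
  obtain ⟨B⟩ := exists_block hG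
  exact (B.values hG hy1 hy2).2.2.2

theorem isConj_of_involutions (hG : Nat.card G = 5616) {y y' : G} (hy1 : y ≠ 1) (hy2 : y ^ 2 = 1)
    (hy1' : y' ≠ 1) (hy2' : y' ^ 2 = 1) : IsConj y y' := by
  classical
  obtain ⟨B⟩ := exists_block hG
  by_contra hn
  obtain ⟨R, -, hR⟩ := B.sum_split (fun _ => 0)
  obtain ⟨a1, b1, x1, c1⟩ := B.values hG hy1 hy2
  obtain ⟨a2, b2, x2, c2⟩ := B.values hG hy1' hy2'
  have h11 := Char.sum_mul_conj (G := G) y y
  have h22 := Char.sum_mul_conj (G := G) y' y'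
  have h12 := Char.sum_mul_conj (G := G) y y'
  rw [if_pos (IsConj.refl y), c1, hR] at h11
  rw [if_pos (IsConj.refl y'), c2, hR] at h22
  rw [if_neg hn, hR] at h12
  simp only [Char.principalIrr_apply, a1, b1, x1, a2, b2, x2, map_one, map_ofNat, map_zero,
    real_value hy2, real_value hy2'] at h11 h22 h12
  have hsum : ∑ χ ∈ R, Complex.normSq (χ.1 y + χ.1 y') = -8 := by
    apply Complex.ofReal_injective
    push_cast
    rw [Finset.sum_congr rfl (g := fun χ : Cfsg.IrrCharacter G =>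
      χ.1 y * χ.1 y + 2 * (χ.1 y * χ.1 y') + χ.1 y' * χ.1 y') (fun χ _ => by
        rw [← Complex.mul_conj, map_add, real_value hy2, real_value hy2']; ring)]
    rw [Finset.sum_add_distrib, Finset.sum_add_distrib, ← Finset.mul_sum]
    norm_num at h11 h22 h12
    linear_combination h11 + h22 + 2 * h12
  have : 0 ≤ ∑ χ ∈ R, Complex.normSq (χ.1 y + χ.1 y') :=
    Finset.sum_nonneg fun χ _ => Complex.normSq_nonneg _
  linarith

end CfsgLib.SmallSimple.L33
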