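import Cfsg.Agent.Lib.SmallSimple.L33.Centralizer
import Cfsg.Agent.Lib.GL23.Identify

/-!
Every simple group of order 5616 is isomorphic to `PSL(3,3)`.
-/

set_option autoImplicit false

namespace CfsgLib.SmallSimple.L33

open Subgroup

universe u

variable {G : Type u} [Group G] [Fintype G] [IsSimpleGroup G]

theorem q16_unique_involution : ∀ a b : QuaternionGroup 4, a * a = 1 → b * b = 1 → a ≠ 1 → b ≠ 1 →
    a = b := by decide +kernel

set_option maxHeartbeats 800000 in
theorem centralizer_iso (hG : Nat.card G = 5616) {t : G} (ht1 : t ≠ 1) (ht2 : t * t = 1)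
    (T : Sylow 2 G) (htT : ∀ w ∈ (T : Subgroup G), w * t = t * w) :
    Nonempty (↥(centralizer ({t} : Set G)) ≃* GL (Fin 2) (ZMod 3)) := by
  classical
  have : Fact (Nat.Prime 2) := ⟨Nat.prime_two⟩
  have : Fact (Nat.Prime 3) := ⟨Nat.prime_three⟩
  obtain ⟨hTC, htT', hC⟩ := card_centralizer_inf_sylow hG ht1 ht2 T htT
  have hP := card_sylow_two hG T
  set C := centralizer ({t} : Set G) with hCdef
  have hsolv : Group.IsSolvable ↥C := Char.isSolvable_of_card_eq_prime_pow_mul (a := 4) (b := 1)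
    Nat.prime_two Nat.prime_three (by rw [hC]; norm_num)
  let Tq : Sylow 2 ↥C := T.subtype hTC
  have hTq : (Tq : Subgroup ↥C) = (T : Subgroup G).subgroupOf C := rfl
  have hTqc : Nat.card ↥(Tq : Subgroup ↥C) = 16 := by
    rw [hTq, Nat.card_congr (subgroupOfEquivOfLe hTC).toEquiv, hP]
  have hSc : ∀ S : Sylow 2 ↥C, Nat.card ↥(S : Subgroup ↥C) = 16 := fun S => by
    rw [← hTqc, S.card_eq_multiplicity, Tq.card_eq_multiplicity]
  -- no normal subgroup of order three
  have hno3 : ∀ u : G, u ∈ C → orderOf u = 3 → ¬ C ≤ normalizer (zpowers u : Set G) :=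
    fun u huC hu h => no_normal_three hG ht1 ht2 T htT hu huC h
  have hnnS : ∀ S : Sylow 2 ↥C, ¬ (S : Subgroup ↥C).Normal := by
    intro S hS
    have := Sylow.unique_of_normal S hS
    have e : S = Tq := Subsingleton.elim _ _
    subst e
    refine false_of_sylow_normalized hG ht1 ht2 T htT fun g hg => mem_normalizer_iff.2 fun x => ?_
    constructor
    · intro hx
      exact hS.conj_mem ⟨x, hTC hx⟩ hx ⟨g, hg⟩
    · intro hx
      have h := hS.conj_mem ⟨g * x * g⁻¹, hTC hx⟩ hx ⟨g, hg⟩⁻¹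
      have h' : g⁻¹ * (g * x * g⁻¹) * g⁻¹⁻¹ ∈ (T : Subgroup G) := h
      rwa [show g⁻¹ * (g * x * g⁻¹) * g⁻¹⁻¹ = x by group] at h'
  have hO : Cfsg.oddCore ↥C = ⊥ := by
    refine sSup_eq_bot.2 fun N hN => ?_
    obtain ⟨hNn, hNc⟩ := hN
    have hd : Nat.card N ∣ 3 := by
      refine Nat.Coprime.dvd_of_dvd_mul_left (hNc.pow_right 4) ?_
      rw [show 2 ^ 4 * 3 = 48 from rfl, ← hC]
      exact card_subgroup_dvd_card N
    rcases (Nat.dvd_prime Nat.prime_three).1 hd with h | h
    · exact eq_bot_of_card_eq _ h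
    exfalso
    obtain ⟨⟨⟨u, huC⟩, huN⟩, hu⟩ := exists_prime_orderOf_dvd_card' (G := N) 3 (by rw [h])
    rw [Subgroup.orderOf_mk, Subgroup.orderOf_mk] at hu
    have hmap : N.map C.subtype = zpowers u := by
      have huM : u ∈ N.map C.subtype := ⟨⟨u, huC⟩, huN, rfl⟩
      refine (eq_of_le_of_card_ge (zpowers_le.2 huM) ?_).symm
      rw [Nat.card_congr (N.equivMapOfInjective _ C.subtype_injective).toEquiv.symm, h, Nat.card_zpowers, hu]
    refine hno3 u huC hu fun g hg => mem_normalizer_iff.2 fun x => ?_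
    rw [← hmap]
    constructor
    · rintro ⟨y, hy, rfl⟩
      exact ⟨⟨g, hg⟩ * y * ⟨g, hg⟩⁻¹, hNn.conj_mem y hy _, rfl⟩
    · rintro ⟨y, hy, hyx⟩
      refine ⟨⟨g, hg⟩⁻¹ * y * ⟨g, hg⟩, ?_, ?_⟩
      · have := hNn.conj_mem y hy ⟨g, hg⟩⁻¹
        rwa [inv_inv] at this
      · change g⁻¹ * (y : G) * g = x
        rw [show (y : G) = g * x * g⁻¹ from hyx]
        group
  -- the core has order eight
  set R := (Tq : Subgroup ↥C).normalCore with hR
  have hRn : R.Normal := (Tq : Subgroup ↥C).normalCore_normal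
  have hR6 : R.index ∣ 6 := by
    rw [hR, Subgroup.normalCore_eq_ker, Subgroup.index_ker]
    refine (card_subgroup_dvd_card _).trans ?_
    have h3 : (Tq : Subgroup ↥C).index = 3 := by
      have := (Tq : Subgroup ↥C).card_mul_index
      rw [hTqc, hC] at this
      omega
    rw [Nat.card_perm, show Nat.card (↥C ⧸ (Tq : Subgroup ↥C)) = (Tq : Subgroup ↥C).index from rfl, h3]
    norm_num [Nat.factorial]
  have hRle : R ≤ (Tq : Subgroup ↥C) := (Tq : Subgroup ↥C).normalCore_le
  have hRc : Nat.card R = 8 := by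
    have h1 := R.card_mul_index
    rw [hC] at h1
    have hd : Nat.card R ∣ 16 := hTqc ▸ card_dvd_of_le hRle
    have hle := Nat.le_of_dvd (by norm_num) hd
    have hne : Nat.card R ≠ 16 := fun h => hnnS Tq ((eq_of_le_of_card_ge hRle (by rw [h, hTqc])) ▸ hRn)
    have hi := Nat.le_of_dvd (by norm_num) hR6
    interval_cases hh : R.index <;> norm_num at hR6 <;> omega
  set R0 := R.map C.subtype with hR0
  have hR0c : Nat.card R0 = 8 := by
    rw [← hRc]; exact (Nat.card_congr (R.equivMapOfInjective _ C.subtype_injective).toEquiv).symm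
  have hR0T : R0 ≤ (T : Subgroup G) := by
    rintro _ ⟨r, hr, rfl⟩
    exact hRle hr
  have hR0n : ∀ g ∈ C, ∀ r ∈ R0, g * r * g⁻¹ ∈ R0 := by
    rintro g hg _ ⟨r, hr, rfl⟩
    exact ⟨⟨g, hg⟩ * r * ⟨g, hg⟩⁻¹, hRn.conj_mem r hr _, rfl⟩
  obtain ⟨⟨u, huC⟩, hu⟩ := exists_prime_orderOf_dvd_card' (G := C) 3 (by rw [hC]; norm_num)
  rw [Subgroup.orderOf_mk] at hu
  have hu3 : u ^ 3 = 1 := hu ▸ pow_orderOf_eq_one u
  -- `u` does not centralise the core
  have hnc : ¬ ∀ r ∈ R0, Commute r u := by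
    intro hall
    set N := C ⊓ normalizer (zpowers u : Set G) with hN
    have hcomm : ∀ r ∈ R0, r ∈ normalizer (zpowers u : Set G) := by
      intro r hr
      refine mem_normalizer_iff.2 fun x => ?_
      constructor
      · intro hx
        obtain ⟨k, rfl⟩ := mem_zpowers_iff.1 hx
        rw [((hall r hr).zpow_right k).eq, mul_inv_cancel_right]
        exact zpow_mem (mem_zpowers u) k
      · intro hx
        obtain ⟨k, hk⟩ := mem_zpowers_iff.1 hx
        have : x = u ^ k := by
          rw [show x = r⁻¹ * (r * x * r⁻¹) * r by group, ← hk, mul_assoc,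
            ← ((hall r hr).zpow_right k).eq, inv_mul_cancel_left]
        exact this ▸ zpow_mem (mem_zpowers u) k
    have h8 : 8 ∣ Nat.card N := hR0c ▸ card_dvd_of_le (le_inf (hR0T.trans hTC) hcomm)
    have h3 : 3 ∣ Nat.card N := by
      have := card_dvd_of_le (le_inf (zpowers_le.2 huC) le_normalizer : zpowers u ≤ N)
      rwa [Nat.card_zpowers, hu] at this
    have hd : Nat.card N ∣ 48 := hC ▸ card_dvd_of_le inf_le_left
    have hNne : N ≠ C := fun e => hno3 u huC hu (inf_eq_left.1 e)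
    have h24 : Nat.card N = 24 := by
      obtain ⟨a, ha⟩ : 24 ∣ Nat.card N := Nat.Coprime.mul_dvd_of_dvd_of_dvd (by norm_num) h8 h3
      have hne : Nat.card N ≠ 48 := fun h => hNne (eq_of_le_of_card_ge inf_le_left (by rw [h, hC]))
      have := Nat.le_of_dvd (by norm_num) hd
      have : 0 < Nat.card N := Nat.card_pos
      omega
    have hNn : (N.subgroupOf C).Normal := Subgroup.normal_of_index_eq_two (by
      have := (N.subgroupOf C).card_mul_index
      rw [Nat.card_congr (subgroupOfEquivOfLe (inf_le_left : N ≤ C)).toEquiv, h24, hC] at this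
      omega)
    refine hNne (le_antisymm inf_le_left fun g hg => ⟨hg, ?_⟩)
    have key : ∀ h ∈ C, h * u * h⁻¹ ∈ zpowers u := by
      intro h hh
      have hwN : h * u * h⁻¹ ∈ N :=
        hNn.conj_mem ⟨u, huC⟩ (mem_subgroupOf.2 ⟨huC, le_normalizer (mem_zpowers u)⟩) ⟨h, hh⟩
      have h3w : IsPGroup 3 (zpowers (h * u * h⁻¹)) := IsPGroup.of_card (n := 1) (by
        rw [Nat.card_zpowers, show h * u * h⁻¹ = MulAut.conj h u from rfl, MulEquiv.orderOf_eq, hu, pow_one])
      have h3u : IsPGroup 3 (zpowers u) := IsPGroup.of_card (n := 1) (by rw [Nat.card_zpowers, hu, pow_one])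
      have hsup := h3u.to_sup_of_normal_left' h3w (zpowers_le.2 hwN.2)
      have hle : zpowers u ⊔ zpowers (h * u * h⁻¹) ≤ N :=
        sup_le (zpowers_le.2 ⟨huC, le_normalizer (mem_zpowers u)⟩) (zpowers_le.2 hwN)
      obtain ⟨i, hi⟩ := IsPGroup.iff_card.1 hsup
      have hdd : 3 ^ i ∣ 24 := hi ▸ h24 ▸ card_dvd_of_le hle
      have hi1 : i ≤ 1 := by
        by_contra hcon
        have : 3 ^ 2 ∣ 24 := (Nat.pow_dvd_pow 3 (by omega)).trans hdd
        norm_num at this
      have e := eq_of_le_of_card_ge (le_sup_left (a := zpowers u) (b := zpowers (h * u * h⁻¹))) (by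
        rw [Nat.card_zpowers, hu, hi]; exact (Nat.pow_le_pow_right (by norm_num) hi1).trans (by norm_num))
      have hin := le_sup_right (a := zpowers u) (b := zpowers (h * u * h⁻¹)) (mem_zpowers _)
      rwa [← e] at hin
    refine mem_normalizer_iff.2 fun x => ⟨fun hx => ?_, fun hx => ?_⟩
    · obtain ⟨k, rfl⟩ := mem_zpowers_iff.1 hx
      rw [← conj_zpow]
      exact zpow_mem (key g hg) k
    · obtain ⟨k, hk⟩ := mem_zpowers_iff.1 hx
      have : x = (g⁻¹ * u * g⁻¹⁻¹) ^ k := by rw [conj_zpow, hk]; group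
      exact this ▸ zpow_mem (key g⁻¹ (inv_mem hg)) k
  -- the core has a single involution
  have huniqR : ∀ x ∈ R0, x * x = 1 → x = 1 ∨ x = t := by
    have htR0 : t ∈ R0 := by
      have hnn : (R0.subgroupOf (T : Subgroup G)).Normal := Subgroup.normal_of_index_eq_two (by
        have := Subgroup.card_mul_index (R0.subgroupOf (T : Subgroup G))
        rw [Nat.card_congr (subgroupOfEquivOfLe hR0T).toEquiv, hR0c, hP] at this
        omega)
      have hT2 : IsPGroup 2 ↥(T : Subgroup G) := T.2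
      have hnt : Nontrivial (R0.subgroupOf (T : Subgroup G)) := Finite.one_lt_card_iff_nontrivial.1 (by
        rw [Nat.card_congr (subgroupOfEquivOfLe hR0T).toEquiv, hR0c]; norm_num)
      obtain ⟨z, hz, hz1⟩ := Solvable.exists_ne_one_mem_inf_center_of_normal hT2
        ((Subgroup.nontrivial_iff_ne_bot _).1 hnt)
      set K := R0.subgroupOf (T : Subgroup G) ⊓ center ↥(T : Subgroup G)
      obtain ⟨i, hi⟩ := IsPGroup.iff_card.1 (hT2.to_subgroup K)
      have hKnt : Nontrivial K := ⟨⟨⟨z, hz⟩, 1, fun e => hz1 (congrArg Subtype.val e)⟩⟩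
      have hi0 : i ≠ 0 := by
        rintro rfl
        rw [pow_zero] at hi
        exact absurd hi (Finite.one_lt_card (α := K)).ne'
      obtain ⟨⟨y, hy⟩, hyo⟩ := exists_prime_orderOf_dvd_card' (G := K) 2 (hi ▸ dvd_pow_self 2 hi0)
      rw [Subgroup.orderOf_mk] at hyo
      have hy2 : y * y = 1 := by rw [← pow_two]; exact orderOf_dvd_iff_pow_eq_one.1 (dvd_of_eq hyo)
      have hy1 : y ≠ 1 := fun h => by rw [h, orderOf_one] at hyo; omega
      have := central_unique hG T y ⟨t, htT'⟩ hy.2 (mem_center_iff.2 fun w => Subtype.ext (htT w w.2))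
        hy2 (Subtype.ext ht2) hy1 (fun e => ht1 (congrArg Subtype.val e))
      rw [this] at hy
      exact mem_subgroupOf.1 hy.1
    set S : Set G := {x | x ∈ R0 ∧ x * x = 1} with hS
    have hiff : ∀ x, u * x * u⁻¹ ∈ S ↔ x ∈ S := by
      intro x
      have hsq : ∀ g y : G, y * y = 1 → g * y * g⁻¹ * (g * y * g⁻¹) = 1 := fun g y hy => by
        rw [show g * y * g⁻¹ * (g * y * g⁻¹) = g * (y * y) * g⁻¹ by group, hy]; group
      constructor
      · rintro ⟨h1, h2⟩
        have e : u⁻¹ * (u * x * u⁻¹) * u⁻¹⁻¹ = x := by group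
        exact ⟨e ▸ hR0n u⁻¹ (inv_mem huC) _ h1, e ▸ hsq u⁻¹ _ h2⟩
      · rintro ⟨h1, h2⟩
        exact ⟨hR0n u huC x h1, hsq u x h2⟩
    have hF : Nat.card ↥(R0 ⊓ centralizer ({u} : Set G)) = 2 := by
      have hinv : ∀ x, u * x * u⁻¹ ∈ (R0 : Set G) ↔ x ∈ (R0 : Set G) := fun x => by
        refine ⟨fun h => ?_, hR0n u huC x⟩
        have e : u⁻¹ * (u * x * u⁻¹) * u⁻¹⁻¹ = x := by group
        exact e ▸ hR0n u⁻¹ (inv_mem huC) _ h
      have hm := card_conj_fixed_modEq hu3 (R0 : Set G) hinv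
      rw [fixed_card_le] at hm
      change _ % 3 = _ % 3 at hm
      have hd := card_dvd_of_le (inf_le_left : R0 ⊓ centralizer ({u} : Set G) ≤ R0)
      rw [hR0c] at hd
      rw [show Nat.card (R0 : Set G) = 8 from hR0c] at hm
      have hne : Nat.card ↥(R0 ⊓ centralizer ({u} : Set G)) ≠ 8 := fun h =>
        hnc (inf_centralizer_eq_self (by rw [h, hR0c]))
      have := Nat.le_of_dvd (by norm_num) hd
      interval_cases hh : Nat.card ↥(R0 ⊓ centralizer ({u} : Set G)) <;> omega
    have hut : u * t * u⁻¹ = t := by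
      rw [mem_centralizer_singleton_iff.1 huC, mul_inv_cancel_right]
    have hfix2 : Nat.card {x : S // u * x * u⁻¹ = x} = 2 := by
      rw [← hF]
      refine (Nat.card_congr
        { toFun := fun x => ⟨x.1.1, x.1.2.1, mem_centralizer_singleton_iff.2
            (mul_inv_eq_iff_eq_mul.1 x.2).symm⟩
          invFun := fun x => ⟨⟨x.1, x.2.1, ?_⟩, mul_inv_eq_iff_eq_mul.2
            (mem_centralizer_singleton_iff.1 x.2.2).symm⟩
          left_inv := fun _ => rfl
          right_inv := fun _ => rfl })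
      have hpw : (⟨x.1, x.2⟩ : ↥(R0 ⊓ centralizer ({u} : Set G))) ^ 2 = 1 := by
        have := pow_card_eq_one' (x := (⟨x.1, x.2⟩ : ↥(R0 ⊓ centralizer ({u} : Set G))))
        rwa [hF] at this
      rw [← pow_two]
      exact congrArg Subtype.val hpw
    have hmod3 := card_conj_fixed_modEq hu3 S hiff
    rw [hfix2] at hmod3
    -- translation by `t`
    have htS : ∀ x, t * x ∈ S ↔ x ∈ S := by
      intro x
      have key : ∀ y, y ∈ S → t * y ∈ S := by
        rintro y ⟨h1, h2⟩
        have hc : Commute t y := (htT y (hR0T h1)).symm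
        exact ⟨mul_mem htR0 h1, by rw [show t * y * (t * y) = (t * y) * (y * t) by rw [hc.eq]]; rw [mul_assoc, ← mul_assoc y y, h2, one_mul, ht2]⟩
      refine ⟨fun h => ?_, key x⟩
      have := key _ h
      rwa [← mul_assoc, ht2, one_mul] at this
    have heven : Nat.card S % 2 = 0 := by
      let σ : Equiv.Perm S := (Equiv.mulLeft t).subtypeEquiv fun x => (htS x).symm
      have hσ : σ ^ 2 ^ 1 = 1 := by
        rw [pow_one, pow_two]
        refine Equiv.ext fun x => Subtype.ext ?_
        show t * (t * (x : G)) = x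
        rw [← mul_assoc, ht2, one_mul]
      have := Fintype.ofFinite S
      have h := Equiv.Perm.card_compl_support_modEq hσ
      rw [show σ.supportᶜ = ∅ from Finset.eq_empty_of_forall_notMem fun x hx => by
        rw [Finset.mem_compl, Equiv.Perm.mem_support, not_not, Subtype.ext_iff] at hx
        exact ht1 (mul_eq_right.1 (hx : t * (x : G) = x))] at h
      rw [Nat.card_eq_fintype_card]
      exact h.symm
    have hS8 : Nat.card S ≤ 8 := hR0c ▸ Nat.card_mono (Set.toFinite (R0 : Set G)) (fun x hx => hx.1)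
    intro x hx hx2
    by_contra hcon
    push Not at hcon
    have h3 : 3 ≤ Nat.card S := by
      have hsub : (({1, t, x} : Finset G) : Set G) ⊆ S := by
        intro y hy
        simp only [Finset.coe_insert, Finset.coe_singleton, Set.mem_insert_iff, Set.mem_singleton_iff] at hy
        rcases hy with rfl | rfl | rfl
        · exact ⟨one_mem _, one_mul _⟩
        · exact ⟨htR0, ht2⟩
        · exact ⟨hx, hx2⟩
      have h := Nat.card_mono (Set.toFinite S) hsub
      rw [Nat.card_coe_set_eq, Set.ncard_coe_finset, Finset.card_insert_of_notMem (by simp [ht1.symm, hcon.1.symm]),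
        Finset.card_pair hcon.2.symm] at h
      exact h
    change 2 % 3 = _ % 3 at hmod3
    have hS : S = (R0 : Set G) := Set.Finite.eq_of_subset_of_card_le (Set.toFinite _) (fun x hx => hx.1)
      (by rw [show Nat.card (R0 : Set G) = 8 from hR0c]; omega)
    refine not_elementary_eight hP (fun z z' hz hz' a b c d => central_unique hG T z z' hz hz' a b c d)
      (R0.subgroupOf (T : Subgroup G)) (by rw [Nat.card_congr (subgroupOfEquivOfLe hR0T).toEquiv, hR0c])
      fun a ha => Subtype.ext ?_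
    have : (a : G) ∈ S := by rw [hS]; exact ha
    exact this.2
  -- the intersections
  have hI : ∀ S S' : Sylow 2 ↥C, S ≠ S' → Cfsg.PRankLE 2 1 ↥((S : Subgroup ↥C) ⊓ (S' : Subgroup ↥C)) := by
    intro S S' hne A _ hA
    have hR2 : IsPGroup 2 R := IsPGroup.of_card (n := 3) (by rw [hRc]; norm_num)
    have hle : R ≤ (S : Subgroup ↥C) ⊓ (S' : Subgroup ↥C) :=
      le_inf (hR2.le_sylow_of_normal S) (hR2.le_sylow_of_normal S')
    have heq : R = (S : Subgroup ↥C) ⊓ (S' : Subgroup ↥C) := by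
      refine eq_of_le_of_card_ge hle ?_
      have hd := card_dvd_of_le (inf_le_left : (S : Subgroup ↥C) ⊓ (S' : Subgroup ↥C) ≤ _)
      rw [hSc S] at hd
      have hne16 : Nat.card ↥((S : Subgroup ↥C) ⊓ (S' : Subgroup ↥C)) ≠ 16 := fun h => by
        have e1 := eq_of_le_of_card_ge (inf_le_left : (S : Subgroup ↥C) ⊓ (S' : Subgroup ↥C) ≤ _) (by rw [h, hSc])
        have e2 := eq_of_le_of_card_ge (inf_le_right : (S : Subgroup ↥C) ⊓ (S' : Subgroup ↥C) ≤ _) (by rw [h, hSc])
        exact hne (Sylow.ext (e1.symm.trans e2))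
      rw [hRc]
      obtain ⟨i, hi, he⟩ := (Nat.dvd_prime_pow Nat.prime_two).1 (show _ ∣ 2 ^ 4 from hd)
      rw [he] at hne16 ⊢
      interval_cases i <;> first | omega | norm_num
    have hmem : ∀ a : A, ((((a : ↥((S : Subgroup ↥C) ⊓ (S' : Subgroup ↥C))) : ↥C) : G)) ∈
        ({1, t} : Finset G) := by
      intro a
      have h1 : ((((a : ↥((S : Subgroup ↥C) ⊓ (S' : Subgroup ↥C))) : ↥C) : G)) ∈ R0 :=
        ⟨_, heq.ge (a : ↥((S : Subgroup ↥C) ⊓ (S' : Subgroup ↥C))).2, rfl⟩
      have h2 := congrArg (fun q : ↥((S : Subgroup ↥C) ⊓ (S' : Subgroup ↥C)) => ((q : ↥C) : G)) (hA a a.2)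
      simp only [pow_two, Subgroup.coe_mul, OneMemClass.coe_one] at h2
      simpa using huniqR _ h1 h2
    rw [pow_one]
    calc Nat.card A ≤ Nat.card ↥({1, t} : Finset G) :=
          Nat.card_le_card_of_injective (fun a => ⟨_, hmem a⟩) fun a b h => by
            have := congrArg Subtype.val h
            exact Subtype.ext (Subtype.ext (Subtype.ext this))
      _ ≤ 2 := by rw [Nat.card_eq_fintype_card, Fintype.card_coe]; exact Finset.card_le_two
  rcases InvChar.RankOne.main hO hI with ⟨S, hS⟩ | he | ⟨-, -, -, hq⟩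
  · exact absurd hS (hnnS S)
  · exact he
  · exfalso
    obtain ⟨v, hvT, hv2, hv1, hvt⟩ := exists_other hG T t
    obtain ⟨e⟩ := hq Tq
    let v' : ↥(Tq : Subgroup ↥C) := ⟨⟨v, hTC hvT⟩, hvT⟩
    let t' : ↥(Tq : Subgroup ↥C) := ⟨⟨t, hTC htT'⟩, htT'⟩
    have h := q16_unique_involution (e v') (e t')
      (by rw [← map_mul, ← map_one e]; exact congrArg e (Subtype.ext (Subtype.ext hv2)))
      (by rw [← map_mul, ← map_one e]; exact congrArg e (Subtype.ext (Subtype.ext ht2)))
      (fun h => hv1 (congrArg (fun q : ↥(Tq : Subgroup ↥C) => ((q : ↥C) : G)) (e.map_eq_one_iff.1 h)))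
      (fun h => ht1 (congrArg (fun q : ↥(Tq : Subgroup ↥C) => ((q : ↥C) : G)) (e.map_eq_one_iff.1 h)))
    exact hvt (congrArg (fun q : ↥(Tq : Subgroup ↥C) => ((q : ↥C) : G)) (e.injective h))

theorem nonempty_iso (hG : Nat.card G = 5616) :
    Nonempty (G ≃* Matrix.ProjectiveSpecialLinearGroup (Fin 3) (ZMod 3)) := by
  classical
  have : Fact (Nat.Prime 2) := ⟨Nat.prime_two⟩
  have : Fact (Nat.Prime 3) := ⟨Nat.prime_three⟩
  obtain ⟨T⟩ := (inferInstance : Nonempty (Sylow 2 G))
  have hP := card_sylow_two hG T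
  obtain ⟨⟨z, hz⟩, hzo⟩ := exists_prime_orderOf_dvd_card' (G := center ↥(T : Subgroup G)) 2 (by
    rcases sylow_center_cases hG T with h | h <;> rw [h]; norm_num)
  rw [Subgroup.orderOf_mk] at hzo
  set t : G := (z : G) with ht
  have hto : orderOf t = 2 := by rw [ht, Subgroup.orderOf_coe, hzo]
  have ht1 : t ≠ 1 := fun h => by rw [h, orderOf_one] at hto; omega
  have ht2 : t * t = 1 := by rw [← pow_two]; exact orderOf_dvd_iff_pow_eq_one.1 (dvd_of_eq hto)
  have htT : ∀ w ∈ (T : Subgroup G), w * t = t * w := fun w hw =>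
    congrArg Subtype.val (mem_center_iff.1 hz ⟨w, hw⟩)
  obtain ⟨e⟩ := centralizer_iso hG ht1 ht2 T htT
  obtain ⟨E, -⟩ := GL23.exists_emb hto e
  have hres : Cfsg.pResidual 2 G = ⊤ := by
    refine (CfsgLib.Transfer.pResidual_normal (p := 2) (G := G)).eq_bot_or_eq_top.resolve_left fun h => ?_
    obtain ⟨u, hu⟩ := exists_prime_orderOf_dvd_card' (G := G) 3 (by rw [hG]; norm_num)
    have hmem : u ∈ Cfsg.pResidual 2 G := Subgroup.subset_closure (by
      show (orderOf u).Coprime 2
      rw [hu]; norm_num)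
    rw [h, mem_bot] at hmem
    rw [hmem, orderOf_one] at hu
    omega
  rcases GL23.recognition hres E with h | h
  · exact h
  · obtain ⟨e'⟩ : Nonempty (G ≃* ↥Cfsg.Spor.M11) := h
    have := Nat.card_congr e'.toEquiv
    rw [hG, CfsgLib.Golay.card_M11] at this
    omega

end CfsgLib.SmallSimple.L33
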