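import Cfsg.Agent.Lib.SmallSimple.L33.Sylow
import Cfsg.Agent.Lib.Solvable.CoprimeAction
import Cfsg.Agent.Lib.SmallSimple.L33.IndexThirteen

/-!
A simple group of order 5616: the centraliser of an involution has no normal subgroup of order 3.
-/

set_option autoImplicit false

namespace CfsgLib.SmallSimple.L33

open Subgroup

universe u

variable {G : Type u} [Group G] [Fintype G] [IsSimpleGroup G]

theorem card_centralizer_inf_sylow (hG : Nat.card G = 5616) {t : G} (ht1 : t ≠ 1) (ht2 : t * t = 1)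
    (T : Sylow 2 G) (htT : ∀ w ∈ (T : Subgroup G), w * t = t * w) :
    (T : Subgroup G) ≤ centralizer ({t} : Set G) ∧ t ∈ (T : Subgroup G) ∧
      Nat.card ↥(centralizer ({t} : Set G)) = 48 := by
  have : Fact (Nat.Prime 2) := ⟨Nat.prime_two⟩
  refine ⟨fun w hw => mem_centralizer_singleton_iff.2 (htT w hw), ?_,
    card_centralizer hG ht1 (by rw [pow_two]; exact ht2)⟩
  have h2 : IsPGroup 2 (zpowers t) := IsPGroup.of_card (n := 1) (by
    rw [Nat.card_zpowers, orderOf_eq_prime (by rw [pow_two]; exact ht2) ht1, pow_one])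
  have hle : (T : Subgroup G) ≤ normalizer (zpowers t : Set G) := fun w hw => by
    refine mem_normalizer_iff.2 fun x => ?_
    constructor
    · intro hx
      obtain ⟨k, rfl⟩ := mem_zpowers_iff.1 hx
      rw [(Commute.zpow_right (htT w hw : Commute w t) k).eq, mul_inv_cancel_right]
      exact zpow_mem (mem_zpowers t) k
    · intro hx
      obtain ⟨k, hk⟩ := mem_zpowers_iff.1 hx
      have : x = t ^ k := by
        rw [show x = w⁻¹ * (w * x * w⁻¹) * w by group, ← hk, mul_assoc,
          ← (Commute.zpow_right (htT w hw : Commute w t) k).eq, inv_mul_cancel_left]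
      exact this ▸ zpow_mem (mem_zpowers t) k
  have hsup := T.3 (h2.to_sup_of_normal_left' T.2 hle) le_sup_right
  exact hsup ▸ (le_sup_left (a := zpowers t) (b := (T : Subgroup G)) (mem_zpowers t))

set_option maxHeartbeats 800000 in
theorem no_normal_three (hG : Nat.card G = 5616) {t : G} (ht1 : t ≠ 1) (ht2 : t * t = 1)
    (T : Sylow 2 G) (htT : ∀ w ∈ (T : Subgroup G), w * t = t * w) {u : G} (hu : orderOf u = 3)
    (huC : u ∈ centralizer ({t} : Set G))
    (hnorm : centralizer ({t} : Set G) ≤ normalizer (zpowers u : Set G)) : False := by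
  classical
  have : Fact (Nat.Prime 2) := ⟨Nat.prime_two⟩
  have : Fact (Nat.Prime 3) := ⟨Nat.prime_three⟩
  obtain ⟨hTC, htT', hC⟩ := card_centralizer_inf_sylow hG ht1 ht2 T htT
  have hP := card_sylow_two hG T
  set C := centralizer ({t} : Set G) with hCdef
  set M := normalizer (zpowers u : Set G) with hMdef
  have hu3 : u ^ 3 = 1 := hu ▸ pow_orderOf_eq_one u
  have htu : Commute t u := (mem_centralizer_singleton_iff.1 huC).symm
  -- `144` divides the order of `M`
  have h9 : 9 ∣ Nat.card ↥M := by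
    have hz3 : IsPGroup 3 (zpowers u) := IsPGroup.of_card (n := 1) (by rw [Nat.card_zpowers, hu, pow_one])
    obtain ⟨Q, hQ⟩ := hz3.exists_le_sylow
    have hQc : Nat.card ↥(Q : Subgroup G) = 27 := by
      simpa using SmallOrder.card_sylow_eq (p := 3) (e := 3) (m := 208) (by rw [hG]; norm_num) (by norm_num) Q
    set D := (Q : Subgroup G) ⊓ centralizer ({u} : Set G) with hDdef
    have hDM : D ≤ M := fun g hg => by
      refine mem_normalizer_iff.2 fun x => ?_
      have hgu : Commute g u := mem_centralizer_singleton_iff.1 hg.2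
      constructor
      · intro hx
        obtain ⟨k, rfl⟩ := mem_zpowers_iff.1 hx
        rw [(hgu.zpow_right k).eq, mul_inv_cancel_right]
        exact zpow_mem (mem_zpowers u) k
      · intro hx
        obtain ⟨k, hk⟩ := mem_zpowers_iff.1 hx
        have : x = u ^ k := by
          rw [show x = g⁻¹ * (g * x * g⁻¹) * g by group, ← hk, mul_assoc, ← (hgu.zpow_right k).eq,
            inv_mul_cancel_left]
        exact this ▸ zpow_mem (mem_zpowers u) k
    have huD : zpowers u ≤ D := le_inf hQ (zpowers_le.2 (mem_centralizer_singleton_iff.2 rfl))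
    have hne : zpowers u ≠ D := by
      intro e
      have : Nontrivial ↥(Q : Subgroup G) := Finite.one_lt_card_iff_nontrivial.1 (by rw [hQc]; norm_num)
      have hcen : Nontrivial (center ↥(Q : Subgroup G)) := IsPGroup.center_nontrivial Q.2
      obtain ⟨z, hz⟩ := exists_ne (1 : center ↥(Q : Subgroup G))
      have hzD : ((z : ↥(Q : Subgroup G)) : G) ∈ D := ⟨(z : ↥(Q : Subgroup G)).2,
        mem_centralizer_singleton_iff.2 (congrArg Subtype.val
          (mem_center_iff.1 z.2 ⟨u, hQ (mem_zpowers u)⟩)).symm⟩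
      have huz : ((z : ↥(Q : Subgroup G)) : G) ∈ zpowers u := e.symm ▸ hzD
      have hcz : zpowers ((z : ↥(Q : Subgroup G)) : G) = zpowers u := by
        refine eq_of_le_of_card_ge (zpowers_le.2 huz) ?_
        rw [Nat.card_zpowers, Nat.card_zpowers, hu]
        have hd : orderOf ((z : ↥(Q : Subgroup G)) : G) ∣ 27 :=
          hQc ▸ Subgroup.orderOf_dvd_natCard _ (z : ↥(Q : Subgroup G)).2
        have hne1 : orderOf ((z : ↥(Q : Subgroup G)) : G) ≠ 1 := fun h =>
          hz (Subtype.ext (Subtype.ext (orderOf_eq_one_iff.1 h)))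
        have h2 : orderOf ((z : ↥(Q : Subgroup G)) : G) ≠ 2 := fun h => by rw [h] at hd; norm_num at hd
        have := orderOf_pos ((z : ↥(Q : Subgroup G)) : G)
        omega
      have hQD : (Q : Subgroup G) ≤ D := fun g hg => by
        refine ⟨hg, mem_centralizer_singleton_iff.2 ?_⟩
        obtain ⟨k, hk⟩ := mem_zpowers_iff.1 (hcz.symm ▸ mem_zpowers u :
          u ∈ zpowers ((z : ↥(Q : Subgroup G)) : G))
        rw [← hk]
        exact (Commute.zpow_right (congrArg Subtype.val (mem_center_iff.1 z.2 ⟨g, hg⟩) :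
          Commute g ((z : ↥(Q : Subgroup G)) : G)) k).eq
      have hcard := Nat.le_of_dvd Nat.card_pos (card_dvd_of_le hQD)
      rw [← e, hQc, Nat.card_zpowers, hu] at hcard
      omega
    have hlt : 3 < Nat.card D := by
      have h1 := card_dvd_of_le huD
      rw [Nat.card_zpowers, hu] at h1
      rcases lt_or_eq_of_le (Nat.le_of_dvd Nat.card_pos h1) with h | h
      · exact h
      · exact absurd (eq_of_le_of_card_ge huD (by rw [← h, Nat.card_zpowers, hu])) hne
    have hD27 : Nat.card D ∣ 3 ^ 3 := by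
      rw [show (3 : ℕ) ^ 3 = 27 from rfl, ← hQc]; exact card_dvd_of_le inf_le_left
    obtain ⟨i, hi, he⟩ := (Nat.dvd_prime_pow Nat.prime_three).1 hD27
    refine (dvd_trans ?_ (card_dvd_of_le hDM))
    rw [he] at hlt ⊢
    interval_cases i <;> first | omega | norm_num
  have h144 : 144 ∣ Nat.card ↥M := by
    have h48 : 48 ∣ Nat.card ↥M := hC ▸ card_dvd_of_le hnorm
    have := Nat.lcm_dvd h48 h9
    rwa [show Nat.lcm 48 9 = 144 from by decide] at this
  have hMi := M.card_mul_index
  rw [hG] at hMi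
  obtain ⟨j, hj⟩ := h144
  have h39 : M.index ∣ 39 := ⟨j, by rw [hj] at hMi; nlinarith⟩
  have hMtop : M ≠ ⊤ := by
    intro h
    have hn : (zpowers u).Normal := normalizer_eq_top_iff.1 h
    rcases hn.eq_bot_or_eq_top with e | e
    · have := Nat.card_zpowers u
      rw [e, card_bot, hu] at this
      omega
    · have := Nat.card_zpowers u
      rw [e, card_top, hG, hu] at this
      omega
  have hidx : M.index = 13 ∨ M.index = 39 := by
    have hmem : M.index ∈ Nat.divisors 39 := Nat.mem_divisors.2 ⟨h39, by norm_num⟩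
    rw [show Nat.divisors 39 = {1, 3, 13, 39} from by decide] at hmem
    simp only [Finset.mem_insert, Finset.mem_singleton] at hmem
    rcases hmem with h | h | h | h
    · exact absurd (index_eq_one.1 h) hMtop
    · exfalso
      have hbot : M.normalCore = ⊥ := M.normalCore_normal.eq_bot_or_eq_top.resolve_right fun e =>
        hMtop (top_le_iff.1 (e ▸ M.normalCore_le))
      have h1 : M.normalCore.index ∣ M.index.factorial := by
        rw [Subgroup.normalCore_eq_ker, MonoidHom.ker, ← MonoidHom.ker, Subgroup.index_ker]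
        refine (card_subgroup_dvd_card _).trans ?_
        rw [Nat.card_perm]
        rfl
      rw [hbot, index_bot, hG, h] at h1
      norm_num [Nat.factorial] at h1
    · exact Or.inl h
    · exact Or.inr h
  rcases hidx with h13 | h39'
  · refine false_of_index_thirteen hG M h13 ht1 (by rw [pow_two]; exact ht2)
      (hnorm (mem_centralizer_singleton_iff.2 rfl)) hu (le_normalizer (mem_zpowers u)) htu fun g hg => ?_
    exact (mem_normalizer_iff.1 hg u).1 (mem_zpowers u)
  -- index 39
  have hM : Nat.card ↥M = 144 := by rw [h39'] at hMi; omega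
  let C' : Subgroup ↥M := C.subgroupOf M
  have hC'c : Nat.card ↥C' = 48 := by rw [Nat.card_congr (subgroupOfEquivOfLe hnorm).toEquiv]; exact hC
  have hC'i : C'.index = 3 := by
    have := C'.card_mul_index
    rw [hC'c, hM] at this
    omega
  set R := C'.normalCore with hR
  have hRn : R.Normal := C'.normalCore_normal
  have hR6 : R.index ∣ 6 := by
    rw [hR, Subgroup.normalCore_eq_ker, Subgroup.index_ker]
    refine (card_subgroup_dvd_card _).trans ?_
    rw [Nat.card_perm, show Nat.card (↥M ⧸ C') = C'.index from rfl, hC'i]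
    norm_num [Nat.factorial]
  have hR48 : R ≠ C' := by
    intro e
    -- then every conjugate of `t` under `M` is central in `C`
    have hMt : ∀ m ∈ M, m * t * m⁻¹ = t := by
      intro m hm
      have hmem : ∀ w ∈ C, m⁻¹ * w * m ∈ C := by
        intro w hw
        have h1 : (⟨w, hnorm hw⟩ : ↥M) ∈ R := e.symm ▸ (mem_subgroupOf.2 hw)
        have h2 := hRn.conj_mem _ h1 (⟨m, hm⟩⁻¹)
        rw [e] at h2
        simpa [C', mem_subgroupOf] using h2
      have hcent : ∀ w ∈ C, w * (m * t * m⁻¹) = m * t * m⁻¹ * w := by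
        intro w hw
        have := mem_centralizer_singleton_iff.1 (hmem w hw)
        calc w * (m * t * m⁻¹) = m * ((m⁻¹ * w * m) * t) * m⁻¹ := by group
          _ = m * (t * (m⁻¹ * w * m)) * m⁻¹ := by rw [this]
          _ = m * t * m⁻¹ * w := by group
      obtain ⟨-, hxT, -⟩ := card_centralizer_inf_sylow hG (t := m * t * m⁻¹)
        (by rw [Ne, conj_eq_one_iff]; exact ht1)
        (by rw [show m * t * m⁻¹ * (m * t * m⁻¹) = m * (t * t) * m⁻¹ by group, ht2]; group) T
        (fun w hw => hcent w (hTC hw))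
      exact congrArg Subtype.val (central_unique hG T ⟨m * t * m⁻¹, hxT⟩ ⟨t, htT'⟩
        (mem_center_iff.2 fun w => Subtype.ext (hcent w (hTC w.2)))
        (mem_center_iff.2 fun w => Subtype.ext (htT w w.2))
        (Subtype.ext (by show m * t * m⁻¹ * (m * t * m⁻¹) = 1
                         rw [show m * t * m⁻¹ * (m * t * m⁻¹) = m * (t * t) * m⁻¹ by group, ht2]; group))
        (Subtype.ext ht2) (fun e => ht1 (conj_eq_one_iff.1 (congrArg Subtype.val e)))
        (fun e => ht1 (congrArg Subtype.val e)))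
    have hle : M ≤ C := fun m hm => mem_centralizer_singleton_iff.2 (mul_inv_eq_iff_eq_mul.1 (hMt m hm))
    have := Nat.le_of_dvd Nat.card_pos (card_dvd_of_le hle)
    omega
  have hRle : R ≤ C' := C'.normalCore_le
  have hRc : Nat.card R = 24 := by
    have h1 := R.card_mul_index
    rw [hM] at h1
    have hd : Nat.card R ∣ 48 := hC'c ▸ card_dvd_of_le hRle
    have hlt : Nat.card R ≠ 48 := fun h => hR48 (eq_of_le_of_card_ge hRle (by rw [h, hC'c]))
    have hi := Nat.le_of_dvd (by norm_num) hR6
    have hle48 := Nat.le_of_dvd (by norm_num) hd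
    interval_cases hh : R.index <;> norm_num at hR6 <;> omega
  let R0 : Subgroup G := R.map M.subtype
  have hR0c : Nat.card R0 = 24 := by
    rw [← hRc]; exact (Nat.card_congr (R.equivMapOfInjective _ M.subtype_injective).toEquiv).symm
  have hR0C : R0 ≤ C := by
    rintro _ ⟨r, hr, rfl⟩
    exact hRle hr
  have hR0n : ∀ m ∈ M, ∀ r ∈ R0, m * r * m⁻¹ ∈ R0 := by
    rintro m hm _ ⟨r, hr, rfl⟩
    exact ⟨⟨m, hm⟩ * r * ⟨m, hm⟩⁻¹, hRn.conj_mem r hr _, rfl⟩
  let R2 : Subgroup G := R0 ⊓ (T : Subgroup G)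
  have hR2c : Nat.card R2 = 8 := by
    have hd1 : Nat.card R2 ∣ 24 := hR0c ▸ card_dvd_of_le inf_le_left
    have hd2 : Nat.card R2 ∣ 16 := hP ▸ card_dvd_of_le inf_le_right
    have h8 : Nat.card R2 ∣ 8 := by
      have := Nat.dvd_gcd hd1 hd2
      rwa [show Nat.gcd 24 16 = 8 from rfl] at this
    have hprod := Subgroup.card_mul_index (R2.subgroupOf C)
    have hrel : R2.subgroupOf C = R0.subgroupOf C ⊓ (T : Subgroup G).subgroupOf C := by
      ext; simp [R2, mem_subgroupOf]
    have hle := Subgroup.index_inf_le (H := R0.subgroupOf C) (K := (T : Subgroup G).subgroupOf C)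
    rw [← hrel] at hle
    have e1 := Subgroup.card_mul_index (R0.subgroupOf C)
    have e2 := Subgroup.card_mul_index ((T : Subgroup G).subgroupOf C)
    rw [Nat.card_congr (subgroupOfEquivOfLe hR0C).toEquiv, hR0c, hC] at e1
    rw [Nat.card_congr (subgroupOfEquivOfLe hTC).toEquiv, hP, hC] at e2
    rw [Nat.card_congr (subgroupOfEquivOfLe (inf_le_left.trans hR0C : R2 ≤ C)).toEquiv, hC] at hprod
    have i1 : (R0.subgroupOf C).index = 2 := by omega
    have i2 : ((T : Subgroup G).subgroupOf C).index = 3 := by omega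
    rw [i1, i2] at hle
    have := Nat.le_of_dvd (by norm_num) h8
    nlinarith
  have hucomm : ∀ m ∈ M, Commute (m * t * m⁻¹) u := by
    intro m hm
    obtain ⟨k, hk⟩ := mem_zpowers_iff.1 ((mem_normalizer_iff.1 (inv_mem hm) u).1 (mem_zpowers u))
    have e : u = m * u ^ k * m⁻¹ := by rw [hk]; group
    rw [e]
    exact ((htu.zpow_right k).map (MulAut.conj m).toMonoidHom)
  -- a second central involution of `R0`
  obtain ⟨m, hm, hmt⟩ : ∃ m ∈ M, m * t * m⁻¹ ≠ t := by
    by_contra! h
    have hle : M ≤ C := fun m hm => mem_centralizer_singleton_iff.2 (mul_inv_eq_iff_eq_mul.1 (h m hm))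
    have := Nat.le_of_dvd Nat.card_pos (card_dvd_of_le hle)
    omega
  set t' := m * t * m⁻¹ with ht'
  have ht'1 : t' ≠ 1 := by rw [ht', Ne, conj_eq_one_iff]; exact ht1
  have ht'2 : t' * t' = 1 := by
    rw [ht', show m * t * m⁻¹ * (m * t * m⁻¹) = m * (t * t) * m⁻¹ by group, ht2]; group
  have ht'R : ∀ r ∈ R0, r * t' = t' * r := by
    intro r hr
    have h := mem_centralizer_singleton_iff.1 (hR0C (hR0n m⁻¹ (inv_mem hm) r hr))
    rw [inv_inv] at h
    calc r * t' = m * ((m⁻¹ * r * m) * t) * m⁻¹ := by rw [ht']; group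
      _ = m * (t * (m⁻¹ * r * m)) * m⁻¹ := by rw [h]
      _ = t' * r := by rw [ht']; group
  have htR : ∀ r ∈ R0, r * t = t * r := fun r hr => mem_centralizer_singleton_iff.1 (hR0C hr)
  -- `t` lies in `R2`
  have htR2 : t ∈ R2 := by
    refine ⟨?_, htT'⟩
    have hR2n : (R2.subgroupOf (T : Subgroup G)).Normal := Subgroup.normal_of_index_eq_two (by
      have := Subgroup.card_mul_index (R2.subgroupOf (T : Subgroup G))
      rw [Nat.card_congr (subgroupOfEquivOfLe (inf_le_right : R2 ≤ (T : Subgroup G))).toEquiv, hR2c, hP] at this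
      omega)
    have hT2 : IsPGroup 2 ↥(T : Subgroup G) := T.2
    have hnt : Nontrivial (R2.subgroupOf (T : Subgroup G)) := Finite.one_lt_card_iff_nontrivial.1 (by
      rw [Nat.card_congr (subgroupOfEquivOfLe (inf_le_right : R2 ≤ (T : Subgroup G))).toEquiv, hR2c]; norm_num)
    obtain ⟨z, hz, hz1⟩ := Solvable.exists_ne_one_mem_inf_center_of_normal hT2
      ((Subgroup.nontrivial_iff_ne_bot _).1 hnt)
    set K := R2.subgroupOf (T : Subgroup G) ⊓ center ↥(T : Subgroup G)
    obtain ⟨i, hi⟩ := IsPGroup.iff_card.1 (hT2.to_subgroup K)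
    have hKnt : Nontrivial K := ⟨⟨⟨z, hz⟩, 1, fun e => hz1 (congrArg Subtype.val e)⟩⟩
    have hi0 : i ≠ 0 := by
      rintro rfl
      rw [pow_zero] at hi
      exact absurd hi (Finite.one_lt_card (α := K)).ne'
    obtain ⟨⟨y, hy⟩, hyo⟩ := exists_prime_orderOf_dvd_card' (G := K) 2 (hi ▸ dvd_pow_self 2 hi0)
    rw [Subgroup.orderOf_mk] at hyo
    have hy2 : y * y = 1 := by rw [← pow_two]; exact orderOf_dvd_iff_pow_eq_one.1 (dvd_of_eq hyo)
    have hy1 : y ≠ 1 := fun h => by rw [h, orderOf_one] at hyo; omega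
    have := central_unique hG T y ⟨t, htT'⟩ hy.2 (mem_center_iff.2 fun w => Subtype.ext (htT w w.2))
      hy2 (Subtype.ext ht2) hy1 (fun e => ht1 (congrArg Subtype.val e))
    rw [this] at hy
    exact (mem_subgroupOf.1 hy.1).1
  have ht'R2 : t' ∈ R2 := by
    have ht'R0 : t' ∈ R0 := hR0n m hm t htR2.1
    have h2 : IsPGroup 2 (zpowers t') := IsPGroup.of_card (n := 1) (by
      rw [Nat.card_zpowers, orderOf_eq_prime (by rw [pow_two]; exact ht'2) ht'1, pow_one])
    have hR2p : IsPGroup 2 R2 := IsPGroup.of_card (n := 3) hR2c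
    have hle : R2 ≤ normalizer (zpowers t' : Set G) := fun w hw => by
      refine mem_normalizer_iff.2 fun x => ?_
      have hwc : Commute w t' := ht'R w hw.1
      constructor
      · intro hx
        obtain ⟨k, rfl⟩ := mem_zpowers_iff.1 hx
        rw [(hwc.zpow_right k).eq, mul_inv_cancel_right]
        exact zpow_mem (mem_zpowers t') k
      · intro hx
        obtain ⟨k, hk⟩ := mem_zpowers_iff.1 hx
        have : x = t' ^ k := by
          rw [show x = w⁻¹ * (w * x * w⁻¹) * w by group, ← hk, mul_assoc, ← (hwc.zpow_right k).eq,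
            inv_mul_cancel_left]
        exact this ▸ zpow_mem (mem_zpowers t') k
    have hsup := h2.to_sup_of_normal_left' hR2p hle
    have hle24 : zpowers t' ⊔ R2 ≤ R0 := sup_le (zpowers_le.2 ht'R0) inf_le_left
    obtain ⟨i, hi⟩ := IsPGroup.iff_card.1 hsup
    have hd : 2 ^ i ∣ 24 := hi ▸ hR0c ▸ card_dvd_of_le hle24
    have hi3 : i ≤ 3 := by
      by_contra hcon
      have : 2 ^ 4 ∣ 24 := (Nat.pow_dvd_pow 2 (by omega)).trans hd
      norm_num at this
    have e := eq_of_le_of_card_ge (le_sup_right (a := zpowers t') (b := R2)) (by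
      rw [hR2c, hi]; exact (Nat.pow_le_pow_right (by norm_num) hi3).trans (by norm_num))
    exact e.symm ▸ (le_sup_left (a := zpowers t') (b := R2) (mem_zpowers t'))
  -- `R2` is abelian with a single non-trivial square
  have hcenter : ∀ x ∈ R2, ∀ y ∈ R2, x * y = y * x := by
    let z1 : center R2 := ⟨⟨t, htR2⟩, mem_center_iff.2 fun w => Subtype.ext (htR w w.2.1)⟩
    let z2 : center R2 := ⟨⟨t', ht'R2⟩, mem_center_iff.2 fun w => Subtype.ext (ht'R w w.2.1)⟩
    have h3 : 3 ≤ Nat.card (center R2) := three_le_card (Q := R2) (a := z1.1) (b := z2.1)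
      (fun e => ht1 (congrArg Subtype.val e)) (fun e => ht'1 (congrArg Subtype.val e))
      (fun e => hmt (congrArg Subtype.val e)) z1.2 z2.2
    have hq := Subgroup.card_eq_card_quotient_mul_card_subgroup (center R2)
    rw [hR2c] at hq
    have hd : Nat.card (center R2) ∣ 8 := hR2c ▸ card_subgroup_dvd_card _
    have hq2 : Nat.card (R2 ⧸ center R2) ≤ 2 := by
      have h4 : 4 ≤ Nat.card (center R2) := by
        by_contra h
        have : Nat.card (center R2) = 3 := by omega
        rw [this] at hd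
        norm_num at hd
      nlinarith
    have hcyc : IsCyclic (R2 ⧸ center R2) := isCyclic_of_card_dvd_prime (p := 2) (by
      have hpos : 0 < Nat.card (R2 ⧸ center R2) := Nat.card_pos
      interval_cases h : Nat.card (R2 ⧸ center R2) <;> norm_num)
    intro x hx y hy
    exact congrArg Subtype.val (commutative_of_cyclic_center_quotient
      (QuotientGroup.mk' (center R2)) (by simp) (⟨x, hx⟩ : R2) ⟨y, hy⟩)
  have helem : ∃ x ∈ R2, x * x ≠ 1 := by
    by_contra! h
    refine not_elementary_eight hP (fun z z' hz hz' a b c d => central_unique hG T z z' hz hz' a b c d)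
      (R2.subgroupOf (T : Subgroup G)) ?_ (fun a ha => Subtype.ext (h a ha))
    rw [Nat.card_congr (subgroupOfEquivOfLe (inf_le_right : R2 ≤ (T : Subgroup G))).toEquiv, hR2c]
  obtain ⟨x0, hx0, hx0s⟩ := helem
  set σ := x0 * x0 with hσ
  let _ : CommGroup R2 :=
    { (inferInstance : Group R2) with mul_comm := fun a b => Subtype.ext (hcenter a a.2 b b.2) }
  let sq : R2 →* R2 := powMonoidHom 2
  have hker4 : 4 ≤ Nat.card sq.ker := by
    have h3 : 3 ≤ Nat.card sq.ker := three_le_card (a := (⟨t, htR2⟩ : R2)) (b := ⟨t', ht'R2⟩)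
      (fun e => ht1 (congrArg Subtype.val e)) (fun e => ht'1 (congrArg Subtype.val e))
      (fun e => hmt (congrArg Subtype.val e))
      (MonoidHom.mem_ker.2 (Subtype.ext (by simp [sq, pow_two, ht2])))
      (MonoidHom.mem_ker.2 (Subtype.ext (by simp [sq, pow_two, ht'2])))
    have hd : Nat.card sq.ker ∣ 8 := hR2c ▸ card_subgroup_dvd_card _
    by_contra h
    have : Nat.card sq.ker = 3 := by omega
    rw [this] at hd
    norm_num at hd
  have hsquares : ∀ s ∈ R2, s * s = 1 ∨ s * s = σ := by
    intro s hs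
    have hq := Subgroup.card_eq_card_quotient_mul_card_subgroup sq.ker
    rw [Nat.card_congr (QuotientGroup.quotientKerEquivRange sq).toEquiv, hR2c] at hq
    have hle : Nat.card sq.range ≤ 2 := by nlinarith
    by_contra! hcon
    have h3 := three_le_card (a := sq ⟨x0, hx0⟩) (b := sq ⟨s, hs⟩)
      (fun e => hx0s (by simpa [sq, pow_two] using congrArg Subtype.val e))
      (fun e => hcon.1 (by simpa [sq, pow_two] using congrArg Subtype.val e))
      (fun e => hcon.2 (by simpa [sq, pow_two] using congrArg Subtype.val e))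
      (MonoidHom.mem_range.2 ⟨_, rfl⟩ : sq ⟨x0, hx0⟩ ∈ sq.range) (MonoidHom.mem_range.2 ⟨_, rfl⟩)
    omega
  have hσ2 : σ * σ = 1 := by
    rcases hsquares σ (mul_mem hx0 hx0) with h | h
    · exact h
    · exact absurd (mul_left_cancel (h.trans (mul_one σ).symm)) hx0s
  have hsix : ∀ r ∈ R0, r ^ 6 = 1 ∨ r ^ 6 = σ := by
    intro r hr
    have huR0 : u ∈ R0 := by
      refine ⟨⟨u, le_normalizer (mem_zpowers u)⟩, ?_, rfl⟩
      have hnu : (zpowers (⟨u, le_normalizer (mem_zpowers u)⟩ : ↥M)).Normal := by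
        refine ⟨fun w hw g => ?_⟩
        obtain ⟨k, rfl⟩ := mem_zpowers_iff.1 hw
        obtain ⟨l, hl⟩ := mem_zpowers_iff.1 ((mem_normalizer_iff.1 g.2 (u ^ k)).1 (zpow_mem (mem_zpowers u) k))
        exact mem_zpowers_iff.2 ⟨l, Subtype.ext (by simpa using hl)⟩
      have := Subgroup.normalCore_le C'
      exact (Subgroup.normal_le_normalCore (H := C')).2 (zpowers_le.2 (mem_subgroupOf.2 huC))
        (mem_zpowers _)
    -- `r = s * u ^ i`
    obtain ⟨s, hs, i, rfl⟩ : ∃ s ∈ R2, ∃ i : Fin 3, r = s * u ^ (i : ℕ) := by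
      let f : R2 × Fin 3 → R0 := fun q => ⟨q.1 * u ^ (q.2 : ℕ), mul_mem q.1.2.1 (pow_mem huR0 _)⟩
      have hf : Function.Injective f := by
        rintro ⟨a, i⟩ ⟨b, j⟩ h
        have h' : (a : G) * u ^ (i : ℕ) = b * u ^ (j : ℕ) := congrArg Subtype.val h
        have hab : (b : G)⁻¹ * a = u ^ (j : ℕ) * (u ^ (i : ℕ))⁻¹ := by
          rw [eq_mul_inv_iff_mul_eq, mul_assoc, h', inv_mul_cancel_left]
        have h1 : ((b : G)⁻¹ * a) ^ 8 = 1 := by
          have := pow_card_eq_one' (x := b⁻¹ * a)
          rw [hR2c] at this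
          exact congrArg Subtype.val this
        have h2 : ((b : G)⁻¹ * a) ^ 3 = 1 := by
          rw [hab, Commute.mul_pow (((Commute.refl u).pow_pow _ _).inv_right), inv_pow, ← pow_mul,
            ← pow_mul, mul_comm (j : ℕ), mul_comm (i : ℕ), pow_mul, pow_mul, hu3]
          simp
        have h0 : (b : G)⁻¹ * a = 1 := by
          have h9 : ((b : G)⁻¹ * a) ^ 9 = 1 := by rw [show 9 = 3 * 3 from rfl, pow_mul, h2, one_pow]
          rwa [pow_succ, h1, one_mul] at h9
        have hab' : a = b := Subtype.ext (inv_mul_eq_one.1 h0).symm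
        subst hab'
        have := mul_left_cancel h'
        rw [pow_inj_mod, hu] at this
        exact Prod.ext rfl (Fin.ext (by have := i.isLt; have := j.isLt; simp only at this ⊢; omega))
      have hbij : Function.Bijective f :=
        Nat.bijective_iff_injective_and_card f |>.2 ⟨hf, by rw [Nat.card_prod, hR2c, hR0c, Nat.card_fin]⟩
      obtain ⟨⟨s, i⟩, h⟩ := hbij.2 ⟨r, hr⟩
      exact ⟨s, s.2, i, (congrArg Subtype.val h).symm⟩
    set w := u ^ (i : ℕ) with hw
    -- `s * s` commutes with `u`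
    have hs2u : Commute (s * s) u := by
      rcases hsquares s hs with h | h <;> rw [h]
      · exact Commute.one_left u
      · have : Commute (x0 * x0) u := by
          obtain ⟨k, hk⟩ := mem_zpowers_iff.1 ((mem_normalizer_iff.1 (hnorm (hTC hx0.2)) u).1 (mem_zpowers u))
          have hcases : x0 * u * x0⁻¹ = u ∨ x0 * u * x0⁻¹ = u⁻¹ := by
            rcases pow_three_cases hu (mem_zpowers_iff.2 ⟨k, hk⟩) with h | h | h
            · exfalso
              rw [conj_eq_one_iff] at h
              rw [h, orderOf_one] at hu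
              omega
            · exact Or.inl h
            · refine Or.inr (h.trans (eq_inv_of_mul_eq_one_left ?_))
              rw [← pow_succ]; exact hu3
          have hfix : (x0 * x0) * u * (x0 * x0)⁻¹ = u := by
            rw [show x0 * x0 * u * (x0 * x0)⁻¹ = x0 * (x0 * u * x0⁻¹) * x0⁻¹ by group]
            rcases hcases with h | h
            · rw [h, h]
            · rw [h, show x0 * u⁻¹ * x0⁻¹ = (x0 * u * x0⁻¹)⁻¹ by group, h, inv_inv]
          exact mul_inv_eq_iff_eq_mul.1 hfix
        exact this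
    obtain ⟨k, hk⟩ := mem_zpowers_iff.1
      ((mem_normalizer_iff.1 (hnorm (hR0C hs.1)) w).1 (pow_mem (mem_zpowers u) _))
    have hwu : w ∈ zpowers u := pow_mem (mem_zpowers u) _
    obtain ⟨l, hl⟩ := mem_zpowers_iff.1 hwu
    have hkey : (s * w) ^ 6 = (s * s) ^ 3 := by
      have h1 : (s * w) ^ 2 = (s * s) * (s⁻¹ * w * s * w) := by rw [pow_two]; group
      obtain ⟨a, ha⟩ := mem_zpowers_iff.1 (mul_mem
        (by
          have := (mem_normalizer_iff.1 (inv_mem (hnorm (hR0C hs.1))) w).1 hwu
          rwa [inv_inv] at this) hwu : s⁻¹ * w * s * w ∈ zpowers u)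
      rw [show (6 : ℕ) = 2 * 3 from rfl, pow_mul, h1, ← ha,
        Commute.mul_pow (hs2u.zpow_right a), ← zpow_natCast (u ^ a) 3, ← zpow_mul, mul_comm a,
        zpow_mul, zpow_natCast, hu3, one_zpow, mul_one]
    rw [hkey]
    rcases hsquares s hs with h | h <;> rw [h]
    · left; simp
    · right; rw [pow_succ, pow_two, hσ2, one_mul]
  have hσT : σ ∈ (T : Subgroup G) := mul_mem hx0.2 hx0.2
  have hσfix : ∀ g ∈ M, g * σ * g⁻¹ = σ := by
    intro g hg
    have h6 : x0 ^ 6 = σ := by
      rw [show (6 : ℕ) = 2 * 3 from rfl, pow_mul, pow_two, ← hσ, pow_succ, pow_two, hσ2, one_mul]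
    rcases hsix _ (hR0n g hg x0 hx0.1) with h | h <;> rw [conj_pow, h6] at h
    · exact absurd (conj_eq_one_iff.1 h) hx0s
    · exact h
  have hσt : σ = t := congrArg Subtype.val (central_unique hG T ⟨σ, hσT⟩ ⟨t, htT'⟩
    (mem_center_iff.2 fun w => Subtype.ext (mul_inv_eq_iff_eq_mul.1 (hσfix w (hnorm (hTC w.2)))))
    (mem_center_iff.2 fun w => Subtype.ext (htT w w.2)) (Subtype.ext hσ2) (Subtype.ext ht2)
    (fun e => hx0s (congrArg Subtype.val e)) (fun e => ht1 (congrArg Subtype.val e)))
  exact hmt (by have h := hσfix m hm; rw [hσt] at h; exact h)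

end CfsgLib.SmallSimple.L33
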