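import Cfsg.Agent.Lib.Solvable.UniqueInvolution
import Mathlib.GroupTheory.PGroup
import Mathlib.GroupTheory.Commutator.Basic
import Mathlib.GroupTheory.IndexNormal

/-!
Elementary facts on groups of order 16.
-/

set_option autoImplicit false

namespace CfsgLib.SmallSimple.L33

open Subgroup
open scoped commutatorElement

variable {P : Type*} [Group P] [Finite P]

theorem comm_of_sq_one {Q : Type*} [Group Q] (h : ∀ g : Q, g * g = 1) (a b : Q) : a * b = b * a := by
  have hi : ∀ g : Q, g⁻¹ = g := fun g => inv_eq_of_mul_eq_one_right (h g)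
  calc a * b = (a * b)⁻¹ := (hi _).symm
    _ = b * a := by rw [mul_inv_rev, hi, hi]

/-- A nonabelian group of order 16 with a centre of order at least 4 has a single commutator. -/
theorem exists_unique_commutator (hP : Nat.card P = 16) (hnc : ¬ ∀ a b : P, a * b = b * a)
    (hZ : 4 ≤ Nat.card (center P)) :
    ∃ c : P, c ≠ 1 ∧ c * c = 1 ∧ c ∈ center P ∧ (∀ a b : P, ⁅a, b⁆ ≠ 1 → ⁅a, b⁆ = c) ∧
      (∃ a b : P, ⁅a, b⁆ = c) ∧ Nat.card (center P) = 4 ∧ (∀ a : P, a * a ∈ center P) := by
  have hq := Subgroup.card_eq_card_quotient_mul_card_subgroup (center P)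
  rw [hP] at hq
  have hncyc : ¬ IsCyclic (P ⧸ center P) := by
    intro h
    exact hnc fun a b => (commutative_of_cyclic_center_quotient
      (QuotientGroup.mk' (center P)) (by simp) a b)
  have hqd : Nat.card (P ⧸ center P) ∣ 16 := ⟨_, hq⟩
  have hq4 : Nat.card (P ⧸ center P) = 4 := by
    have hle : Nat.card (P ⧸ center P) ≤ 4 := by
      have : Nat.card (P ⧸ center P) * 4 ≤ 16 := by
        calc Nat.card (P ⧸ center P) * 4 ≤ Nat.card (P ⧸ center P) * Nat.card (center P) :=
              Nat.mul_le_mul_left _ hZ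
          _ = 16 := hq.symm
      omega
    have hpos : 0 < Nat.card (P ⧸ center P) := Nat.card_pos
    interval_cases h : Nat.card (P ⧸ center P)
    · exact absurd (isCyclic_of_card_dvd_prime (p := 2) (by rw [h]; norm_num)) hncyc
    · exact absurd (isCyclic_of_card_dvd_prime (p := 2) (by rw [h])) hncyc
    · norm_num at hqd
    · rfl
  have hsq : ∀ a : P, a * a ∈ center P := by
    intro a
    rw [← QuotientGroup.eq_one_iff, QuotientGroup.mk_mul]
    by_contra h
    refine hncyc (isCyclic_of_orderOf_eq_card (QuotientGroup.mk a : P ⧸ center P) ?_)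
    have hd : orderOf (QuotientGroup.mk a : P ⧸ center P) ∣ 4 := hq4 ▸ orderOf_dvd_natCard _
    rw [hq4]
    have hle := Nat.le_of_dvd (by norm_num) hd
    have hne2 : ¬ orderOf (QuotientGroup.mk a : P ⧸ center P) ∣ 2 := fun h2 => h (by
      rw [← pow_two]; exact orderOf_dvd_iff_pow_eq_one.1 h2)
    interval_cases hh : orderOf (QuotientGroup.mk a : P ⧸ center P) <;> simp_all
  have hcom : ∀ a b : P, ⁅a, b⁆ ∈ center P := by
    intro a b
    rw [← QuotientGroup.eq_one_iff, ← QuotientGroup.mk'_apply, map_commutatorElement,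
      commutatorElement_eq_one_iff_commute]
    exact comm_of_sq_one (fun g => by
      obtain ⟨x, rfl⟩ := QuotientGroup.mk_surjective g
      rw [← QuotientGroup.mk_mul, QuotientGroup.eq_one_iff]
      exact hsq x) _ _
  have hsymm : ∀ a b : P, ⁅b, a⁆ = ⁅a, b⁆ := by
    intro a b
    have h1 : ⁅a, b⁆ * ⁅a, b⁆ = ⁅a * a, b⁆ := by
      have hc := mem_center_iff.1 (hcom a b) a
      simp only [commutatorElement_def] at hc ⊢
      calc a * b * a⁻¹ * b⁻¹ * (a * b * a⁻¹ * b⁻¹)
          = a * (b * a⁻¹ * b⁻¹ * (a * b * a⁻¹ * b⁻¹)) := by group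
        _ = a * a * b * (a * a)⁻¹ * b⁻¹ := by
            have : b * a⁻¹ * b⁻¹ * (a * b * a⁻¹ * b⁻¹) = a * b * (a * a)⁻¹ * b⁻¹ := by
              have h2 : a * (a * b * a⁻¹ * b⁻¹) = a * b * a⁻¹ * b⁻¹ * a := hc
              calc b * a⁻¹ * b⁻¹ * (a * b * a⁻¹ * b⁻¹)
                  = a⁻¹ * ((a * b * a⁻¹ * b⁻¹) * (a * b * a⁻¹ * b⁻¹)) := by group
                _ = a⁻¹ * ((a * b * a⁻¹ * b⁻¹) * (a * (b * a⁻¹ * b⁻¹))) := by group
                _ = a⁻¹ * (((a * b * a⁻¹ * b⁻¹) * a) * (b * a⁻¹ * b⁻¹)) := by group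
                _ = a⁻¹ * ((a * (a * b * a⁻¹ * b⁻¹)) * (b * a⁻¹ * b⁻¹)) := by rw [h2]
                _ = a * b * (a * a)⁻¹ * b⁻¹ := by group
            rw [this]; group
    have h2 : ⁅a, b⁆ * ⁅a, b⁆ = 1 := by
      rw [h1, commutatorElement_eq_one_iff_commute]
      exact (mem_center_iff.1 (hsq a) b).symm
    rw [← commutatorElement_inv, inv_eq_of_mul_eq_one_right h2]
  push Not at hnc
  obtain ⟨a0, b0, hab⟩ := hnc
  have hne0 : ⁅a0, b0⁆ ≠ 1 := fun h => hab (commutatorElement_eq_one_iff_commute.1 h)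
  -- for fixed `a`, all nontrivial commutators `⁅a, b⁆` agree
  have hrow : ∀ a b b' : P, ⁅a, b⁆ ≠ 1 → ⁅a, b'⁆ ≠ 1 → ⁅a, b⁆ = ⁅a, b'⁆ := by
    intro a b b' hb hb'
    set C := centralizer ({a} : Set P) with hC
    have hidx : C.index = 2 := by
      have hlt : center P < C := lt_of_le_of_ne (center_le_centralizer _) fun e => hb (by
        rw [commutatorElement_eq_one_iff_commute]
        have : a ∈ center P := e ▸ mem_centralizer_singleton_iff.2 rfl
        exact (mem_center_iff.1 this b).symm)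
      have hlt2 := Set.Finite.card_lt_card (Set.toFinite (C : Set P)) hlt
      simp only [SetLike.coe_sort_coe] at hlt2
      have hmul := C.card_mul_index
      rw [hP] at hmul
      have h1 : C.index ≠ 1 := fun e => hb (by
        rw [commutatorElement_eq_one_iff_commute]
        exact (mem_centralizer_singleton_iff.1 ((index_eq_one.1 e) ▸ mem_top b : b ∈ C)).symm)
      have hd : C.index ∣ 16 := ⟨_, by rw [mul_comm]; exact hmul.symm⟩
      have hcz : 4 < Nat.card C := lt_of_le_of_lt hZ hlt2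
      have : C.index ≤ 3 := by nlinarith
      have hi0 : C.index ≠ 0 := Subgroup.index_ne_zero_of_finite
      interval_cases h : C.index <;> first | omega | norm_num at hd
    have hmem : b⁻¹ * b' ∈ C := by
      have hnb : b ∉ C := fun h => hb (commutatorElement_eq_one_iff_commute.2
        (mem_centralizer_singleton_iff.1 h).symm)
      have hnb' : b' ∉ C := fun h => hb' (commutatorElement_eq_one_iff_commute.2
        (mem_centralizer_singleton_iff.1 h).symm)
      rw [mul_mem_iff_of_index_two hidx, inv_mem_iff]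
      exact ⟨fun h => absurd h hnb, fun h => absurd h hnb'⟩
    obtain ⟨k, hk, rfl⟩ : ∃ k ∈ C, b' = b * k := ⟨_, hmem, by group⟩
    have hk' := mem_centralizer_singleton_iff.1 hk
    simp only [commutatorElement_def]
    rw [show a * (b * k) * a⁻¹ * (b * k)⁻¹ = a * b * (k * a⁻¹) * k⁻¹ * b⁻¹ by group,
      show k * a⁻¹ = a⁻¹ * k from (Commute.inv_right hk')]
    group
  have hall : ∀ a b : P, ⁅a, b⁆ ≠ 1 → ⁅a, b⁆ = ⁅a0, b0⁆ := by
    intro a b h
    -- an element noncommuting with both `a` and `a0`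
    obtain ⟨d, hda, hda0⟩ : ∃ d : P, ⁅a, d⁆ ≠ 1 ∧ ⁅a0, d⁆ ≠ 1 := by
      by_contra! hcon
      by_cases h1 : ⁅a, b0⁆ = 1
      · by_cases h2 : ⁅a0, b⁆ = 1
        · have hd := hcon (b * b0)
          have e1 : ⁅a, b * b0⁆ = ⁅a, b⁆ := by
            rw [commutatorElement_eq_one_iff_commute] at h1
            simp only [commutatorElement_def]
            rw [show a * (b * b0) * a⁻¹ * (b * b0)⁻¹ = a * b * (b0 * a⁻¹) * b0⁻¹ * b⁻¹ by group,
              show b0 * a⁻¹ = a⁻¹ * b0 from (h1.symm.inv_right)]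
            group
          have e2 := hd (e1 ▸ h)
          rw [commutatorElement_eq_one_iff_commute] at e2 h2
          exact hne0 (commutatorElement_eq_one_iff_commute.2 (by
            simpa using (h2.inv_right).mul_right e2))
        · exact h2 (hcon b h)
      · exact hne0 (hcon b0 h1)
    rw [hrow a b d h hda, hrow a0 b0 d hne0 hda0, ← hsymm a d, ← hsymm a0 d]
    exact hrow d a a0 (by rwa [hsymm a d]) (by rwa [hsymm a0 d])
  refine ⟨⁅a0, b0⁆, hne0, ?_, hcom a0 b0, hall, ⟨a0, b0, rfl⟩, ?_, hsq⟩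
  · conv_lhs => arg 2; rw [← hsymm]
    rw [← commutatorElement_inv a0 b0, mul_inv_cancel]
  · rw [hq4] at hq; omega

/-- No elementary subgroup of order 8 when the central involution is unique. -/
theorem not_elementary_eight (hP : Nat.card P = 16)
    (huniq : ∀ z z' : P, z ∈ center P → z' ∈ center P → z * z = 1 → z' * z' = 1 → z ≠ 1 → z' ≠ 1 → z = z')
    (A : Subgroup P) (hA : Nat.card A = 8) (helem : ∀ a ∈ A, a * a = 1) : False := by
  have hidx : A.index = 2 := by
    have := A.card_mul_index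
    rw [hA, hP] at this
    omega
  have : A.Normal := Subgroup.normal_of_index_eq_two hidx
  obtain ⟨s, hs⟩ : ∃ s, s ∉ A := by
    by_contra! h
    have : A = ⊤ := eq_top_iff.2 fun x _ => h x
    rw [this, index_top] at hidx
    omega
  have hcA : ∀ a b : A, a * b = b * a := fun a b =>
    comm_of_sq_one (fun g : A => Subtype.ext (helem g g.2)) a b
  have hinvA : ∀ a ∈ A, a⁻¹ = a := fun a ha => inv_eq_of_mul_eq_one_right (helem a ha)
  let f : A →* A :=
    { toFun := fun a => ⟨s * a * s⁻¹ * a, mul_mem (Normal.conj_mem ‹A.Normal› _ a.2 s) a.2⟩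
      map_one' := Subtype.ext (by simp)
      map_mul' := fun a b => Subtype.ext (by
        have h1 := congrArg Subtype.val (hcA a ⟨s * b * s⁻¹ * b, mul_mem (Normal.conj_mem ‹A.Normal› _ b.2 s) b.2⟩)
        have h2 := congrArg Subtype.val (hcA a b)
        simp only [Subgroup.coe_mul] at h1 h2
        simp only [Subgroup.coe_mul]
        calc s * (↑a * ↑b) * s⁻¹ * (↑a * ↑b) = s * a * s⁻¹ * (s * b * s⁻¹ * (a * b)) := by group
          _ = s * a * s⁻¹ * (s * b * s⁻¹ * (b * a)) := by rw [h2]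
          _ = s * a * s⁻¹ * a * (s * b * s⁻¹ * b) := by
              rw [show s * (b : P) * s⁻¹ * (b * a) = s * b * s⁻¹ * b * a by group, ← h1]
              group) }
  have hs2 : s * s ∈ A := by
    rw [mul_mem_iff_of_index_two hidx]
  have hrange : f.range ≤ f.ker := by
    rintro _ ⟨a, rfl⟩
    rw [MonoidHom.mem_ker]
    apply Subtype.ext
    have hb := (Normal.conj_mem ‹A.Normal› _ a.2 s)
    have hba := congrArg Subtype.val (hcA ⟨s * a * s⁻¹, hb⟩ a)
    have hsa := congrArg Subtype.val (hcA ⟨s * s, hs2⟩ a)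
    simp only [Subgroup.coe_mul] at hba hsa
    show s * (s * a * s⁻¹ * a) * s⁻¹ * (s * a * s⁻¹ * a) = 1
    calc s * (s * a * s⁻¹ * a) * s⁻¹ * (s * a * s⁻¹ * a)
        = (s * s * a) * (s * s)⁻¹ * ((s * a * s⁻¹) * (s * a * s⁻¹) * a) := by group
      _ = 1 := by
        rw [hsa, helem _ hb, one_mul, show (a : P) * (s * s) * (s * s)⁻¹ = a by group, helem _ a.2]
  have hcard := Subgroup.card_eq_card_quotient_mul_card_subgroup f.ker
  rw [Nat.card_congr (QuotientGroup.quotientKerEquivRange f).toEquiv, hA] at hcard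
  have hle : Nat.card f.range ≤ Nat.card f.ker := Nat.le_of_dvd Nat.card_pos (card_dvd_of_le hrange)
  have hkd : Nat.card f.ker ∣ 8 := ⟨_, by rw [mul_comm]; exact hcard⟩
  have hker : 4 ≤ Nat.card f.ker := by
    have := Nat.le_of_dvd (by norm_num) hkd
    interval_cases h : Nat.card f.ker <;> omega
  have hcen : ∀ a : A, a ∈ f.ker → (a : P) ∈ center P := by
    intro a ha
    have h0 := congrArg Subtype.val (MonoidHom.mem_ker.1 ha)
    change s * a * s⁻¹ * a = 1 at h0
    have h1 : s * a * s⁻¹ = a := by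
      rw [eq_inv_of_mul_eq_one_left h0, hinvA a a.2]
    have hs' : s ∈ centralizer ({(a : P)} : Set P) :=
      mem_centralizer_singleton_iff.2 (by rw [← mul_inv_eq_iff_eq_mul]; exact h1)
    refine mem_center_iff.2 fun g => ?_
    by_cases hg : g ∈ A
    · exact congrArg Subtype.val (hcA ⟨g, hg⟩ a)
    · have hgs : g * s⁻¹ ∈ A := by
        rw [mul_mem_iff_of_index_two hidx, inv_mem_iff]
        simp [hg, hs]
      have hc1 : g * s⁻¹ ∈ centralizer ({(a : P)} : Set P) :=
        mem_centralizer_singleton_iff.2 (congrArg Subtype.val (hcA ⟨_, hgs⟩ a))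
      have := mem_centralizer_singleton_iff.1 (mul_mem hc1 hs')
      simpa using this
  -- two distinct central involutions in the kernel
  have : Nontrivial f.ker := Finite.one_lt_card_iff_nontrivial.1 (by omega)
  obtain ⟨z, hz1⟩ : ∃ z : f.ker, z ≠ 1 := exists_ne 1
  obtain ⟨z', hz'1, hz'z⟩ : ∃ z' : f.ker, z' ≠ 1 ∧ z' ≠ z := by
    by_contra! h
    have : Nat.card f.ker ≤ 2 := by
      refine le_trans (Nat.card_le_card_of_surjective (fun b : Bool => if b then z else 1) fun w => ?_) (by simp)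
      by_cases hw : w = 1
      · exact ⟨false, by simp [hw]⟩
      · exact ⟨true, by simp [h w hw]⟩
    omega
  refine hz'z (Subtype.ext (Subtype.ext (huniq _ _ (hcen _ z'.2) (hcen _ z.2) (helem _ z'.1.2) (helem _ z.1.2)
    ?_ ?_)))
  · exact fun h => hz'1 (Subtype.ext (Subtype.ext h))
  · exact fun h => hz1 (Subtype.ext (Subtype.ext h))

end CfsgLib.SmallSimple.L33
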