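import Cfsg.Agent.Lib.SmallSimple.L33.Involution
import Cfsg.Agent.Lib.SmallSimple.L33.TwoGroup
import Cfsg.Agent.S0219
import Cfsg.Agent.S0847
import Cfsg.Agent.S0949
import Mathlib.RepresentationTheory.Invariants
import Mathlib.Data.ZMod.QuotientGroup

/-!
A simple group of order 5616: the Sylow 2-subgroup has a unique central involution and a further one.
-/

set_option autoImplicit false

namespace CfsgLib.SmallSimple.L33

open Subgroup
open scoped commutatorElement

universe u

variable {G : Type u} [Group G] [Fintype G] [IsSimpleGroup G]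

theorem card_sylow_two (hG : Nat.card G = 5616) (T : Sylow 2 G) : Nat.card ↥(T : Subgroup G) = 16 := by
  have : Fact (Nat.Prime 2) := ⟨Nat.prime_two⟩
  simpa using SmallOrder.card_sylow_eq (p := 2) (e := 4) (m := 351) (by rw [hG]; norm_num) (by norm_num) T

theorem no_odd_normal (hG : Nat.card G = 5616) :
    ∀ N : Subgroup G, N.Normal → Odd (Nat.card N) → N = ⊥ := by
  intro N hN hodd
  refine hN.eq_bot_or_eq_top.resolve_right fun h => ?_
  rw [h, Subgroup.card_top, hG] at hodd
  exact absurd hodd (by decide)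

omit [IsSimpleGroup G] in
/-- The sum of a character over a subgroup is a multiple of its order. -/
theorem exists_sum_eq (χ : Cfsg.IrrCharacter G) (H : Subgroup G) [Fintype H] :
    ∃ k : ℕ, ∑ x : H, (χ : G → ℂ) x = (Nat.card H : ℂ) * k := by
  obtain ⟨n, ρ, -, hχ⟩ := χ.2
  set θ : Representation ℂ H (Fin n → ℂ) := ρ.comp H.subtype
  haveI : Invertible (Fintype.card H : ℂ) :=
    invertibleOfNonzero (Nat.cast_ne_zero.2 Fintype.card_ne_zero)
  have h1 : (Nat.card H : ℂ)⁻¹ * ∑ h, θ.character h =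
      Module.finrank ℂ (Representation.invariants θ) := by
    rw [← (Representation.isProj_averageMap θ).trace]
    simp [Representation.averageMap, GroupAlgebra.average, Representation.character,
      map_sum, Representation.asAlgebraHom_of, Nat.card_eq_fintype_card]
  refine ⟨Module.finrank ℂ (Representation.invariants θ), ?_⟩
  rw [← h1, mul_inv_cancel_left₀ (Nat.cast_ne_zero.2 Nat.card_pos.ne'), ← hχ]
  rfl

theorem not_elementary (hG : Nat.card G = 5616) (T : Sylow 2 G) :
    ¬ ∀ x ∈ (T : Subgroup G), x * x = 1 := by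
  classical
  intro h
  obtain ⟨B⟩ := exists_block hG
  have := Fintype.ofFinite ↥(T : Subgroup G)
  obtain ⟨k, hk⟩ := exists_sum_eq B.a (T : Subgroup G)
  have h1 : (B.a : G → ℂ) 1 = 12 := by
    rw [← Char.IsCharacter.degree_cast (Char.IsIrrCharacter.isCharacter B.a.2), B.ha]; norm_num
  have hcard : Fintype.card ↥(T : Subgroup G) = 16 := by
    rw [← Nat.card_eq_fintype_card]; exact card_sylow_two hG T
  rw [← Finset.add_sum_erase _ _ (Finset.mem_univ (1 : ↥(T : Subgroup G))),
    Finset.sum_congr rfl (g := fun _ => (4 : ℂ)) (fun x hx => (B.values hG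
      (fun e => Finset.ne_of_mem_erase hx (Subtype.ext e)) (by rw [pow_two]; exact h x x.2)).1),
    Finset.sum_const, Finset.card_erase_of_mem (Finset.mem_univ _), Finset.card_univ, hcard,
    card_sylow_two hG T, OneMemClass.coe_one, h1] at hk
  norm_num at hk
  have : ((72 : ℕ) : ℂ) = ((16 * k : ℕ) : ℂ) := by push_cast; linear_combination hk
  have := Nat.cast_injective this
  omega

/-- Involutions centralising `T` are conjugate in its normaliser. -/
theorem fusion (hG : Nat.card G = 5616) (T : Sylow 2 G) {x z : G} (hx : x ∈ (T : Subgroup G))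
    (hz : z ∈ (T : Subgroup G)) (hxc : ∀ w ∈ (T : Subgroup G), w * x = x * w)
    (hzc : ∀ w ∈ (T : Subgroup G), w * z = z * w) (hx1 : x ≠ 1) (hx2 : x * x = 1) (hz1 : z ≠ 1)
    (hz2 : z * z = 1) : ∃ n ∈ normalizer ((T : Subgroup G) : Set G), z = n⁻¹ * x * n := by
  have : Fact (Nat.Prime 2) := ⟨Nat.prime_two⟩
  obtain ⟨c, hc⟩ := isConj_iff.1 (isConj_of_involutions hG hx1 (by rw [pow_two]; exact hx2) hz1
    (by rw [pow_two]; exact hz2))
  have hy : c⁻¹⁻¹ * x * c⁻¹ = z := by rw [inv_inv, hc]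
  obtain ⟨n, hn, he⟩ := T.conj_eq_normalizer_conj_of_mem_centralizer x c⁻¹
    (mem_centralizer_iff.2 hxc) (by rw [hy]; exact mem_centralizer_iff.2 hzc)
  exact ⟨n, hn, hy ▸ he⟩

theorem conj_mem {T : Sylow 2 G} {n w : G} (hn : n ∈ normalizer ((T : Subgroup G) : Set G))
    (hw : w ∈ (T : Subgroup G)) : n⁻¹ * w * n ∈ (T : Subgroup G) := by
  have := (mem_normalizer_iff.1 (inv_mem hn) w).1 hw
  rwa [inv_inv] at this

theorem not_normal (hG : Nat.card G = 5616) (T : Sylow 2 G) : ¬ (T : Subgroup G).Normal := by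
  intro h
  rcases h.eq_bot_or_eq_top with e | e
  · have := card_sylow_two hG T
    rw [e, card_bot] at this
    omega
  · have := card_sylow_two hG T
    rw [e, card_top, hG] at this
    omega

theorem not_cyclic (hG : Nat.card G = 5616) (T : Sylow 2 G) : ¬ IsCyclic ↥(T : Subgroup G) := by
  intro h
  obtain ⟨H, hH⟩ := Cfsg.Agent.S0219.result (by rw [hG]; decide) T h
  have := Subgroup.normal_of_index_eq_two hH
  rcases this.eq_bot_or_eq_top with e | e
  · rw [e, index_bot, hG] at hH; omega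
  · rw [e, index_top] at hH; omega

/-- A second involution exists in `T`. -/
theorem exists_other (hG : Nat.card G = 5616) (T : Sylow 2 G) (t : G) :
    ∃ v ∈ (T : Subgroup G), v * v = 1 ∧ v ≠ 1 ∧ v ≠ t := by
  have : Fact (Nat.Prime 2) := ⟨Nat.prime_two⟩
  by_contra! hcon
  have huniq : ∀ u v : ↥(T : Subgroup G), u ^ 2 = 1 → u ≠ 1 → v ^ 2 = 1 → v ≠ 1 → u = v := by
    intro u v hu hu1 hv hv1
    refine Subtype.ext ((hcon u u.2 ?_ ?_).trans (hcon v v.2 ?_ ?_).symm)
    · rw [← pow_two]; exact congrArg Subtype.val hu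
    · exact fun e => hu1 (Subtype.ext e)
    · rw [← pow_two]; exact congrArg Subtype.val hv
    · exact fun e => hv1 (Subtype.ext e)
  rcases Solvable.isCyclic_or_quaternion_of_unique_involution T.2 huniq with h | ⟨k, ⟨e⟩⟩
  · exact not_cyclic hG T h
  have hk := Nat.card_congr e.toEquiv
  rw [card_sylow_two hG T, Nat.card_eq_fintype_card, QuaternionGroup.card] at hk
  have hk2 : k = 2 := by
    have h4 : 2 ^ k = 2 ^ 2 := by omega
    exact Nat.pow_right_injective le_rfl h4
  subst hk2
  have hc := Cfsg.Agent.S0847.result T 0 e (no_odd_normal hG)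
  rw [SmallOrder.center_eq_bot_of_not_comm (not_comm hG), card_bot] at hc
  omega

theorem three_le_card {Q : Type*} [Group Q] [Finite Q] {K : Subgroup Q} {a b : Q} (ha : a ≠ 1)
    (hb : b ≠ 1) (hba : b ≠ a) (haK : a ∈ K) (hbK : b ∈ K) : 3 ≤ Nat.card K := by
  classical
  have hsub : (({1, a, b} : Finset Q) : Set Q) ⊆ (K : Set Q) := by
    intro x hx
    simp only [Finset.coe_insert, Finset.coe_singleton, Set.mem_insert_iff, Set.mem_singleton_iff] at hx
    rcases hx with rfl | rfl | rfl
    · exact one_mem _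
    · exact haK
    · exact hbK
  have h := Nat.card_mono (Set.toFinite (K : Set Q)) hsub
  rw [Nat.card_coe_set_eq, Set.ncard_coe_finset, Finset.card_insert_of_notMem (by simp [ha.symm, hb.symm]),
    Finset.card_pair hba.symm] at h
  exact h

theorem not_comm_sylow (hG : Nat.card G = 5616) (T : Sylow 2 G) :
    ¬ ∀ a b : ↥(T : Subgroup G), a * b = b * a := by
  intro hab
  have : Fact (Nat.Prime 2) := ⟨Nat.prime_two⟩
  set P := ↥(T : Subgroup G)
  let _ : CommGroup P := { (inferInstance : Group P) with mul_comm := hab }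
  have hP : Nat.card P = 16 := card_sylow_two hG T
  let sq : P →* P := powMonoidHom 2
  have hcen : ∀ x : P, ∀ w ∈ (T : Subgroup G), w * (x : G) = x * w := fun x w hw =>
    congrArg Subtype.val (hab ⟨w, hw⟩ x)
  have hexp : ∀ a : P, a ^ 8 = 1 := by
    intro a
    have hd : orderOf a ∣ 2 ^ 4 := by rw [show (2 : ℕ) ^ 4 = 16 from rfl, ← hP]; exact orderOf_dvd_natCard a
    obtain ⟨i, hi, he⟩ := (Nat.dvd_prime_pow Nat.prime_two).1 hd
    have hne : orderOf a ≠ 16 := fun h =>
      not_cyclic hG T (isCyclic_of_orderOf_eq_card a (h.trans hP.symm))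
    apply orderOf_dvd_iff_pow_eq_one.1
    rw [he] at hne ⊢
    interval_cases i <;> first | omega | norm_num
  obtain ⟨s, ⟨r, hr⟩, hs2, hs1⟩ : ∃ s : P, s ∈ sq.range ∧ s * s = 1 ∧ s ≠ 1 := by
    obtain ⟨a, ha⟩ : ∃ a : P, a * a ≠ 1 := by
      by_contra! h
      exact not_elementary hG T fun x hx => congrArg Subtype.val (h ⟨x, hx⟩)
    by_cases h4 : a * a * (a * a) = 1
    · exact ⟨a * a, ⟨a, pow_two a⟩, h4, ha⟩
    · refine ⟨a * a * (a * a), ⟨a * a, pow_two (a * a)⟩, ?_, h4⟩
      have := hexp a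
      rw [show a * a * (a * a) * (a * a * (a * a)) = a ^ 8 by simp only [← pow_two, ← pow_mul]; norm_num]
      exact this
  have hker : sq.ker ≤ sq.range := by
    intro z hz
    by_cases hz1 : z = 1
    · rw [hz1]; exact one_mem _
    have hz2 : z * z = 1 := by rw [← pow_two]; exact MonoidHom.mem_ker.1 hz
    obtain ⟨n, hn, he⟩ := fusion hG T s.2 z.2 (hcen s) (hcen z) (fun e => hs1 (Subtype.ext e))
      (congrArg Subtype.val hs2) (fun e => hz1 (Subtype.ext e)) (congrArg Subtype.val hz2)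
    refine ⟨⟨n⁻¹ * r * n, conj_mem hn r.2⟩, Subtype.ext ?_⟩
    have hr' : (r : G) * r = s := by
      rw [← hr]; simp [sq, pow_two]; rfl
    show (((⟨n⁻¹ * r * n, conj_mem hn r.2⟩ : P) ^ 2 : P) : G) = z
    rw [pow_two, Subgroup.coe_mul, he, ← hr']
    group
  have hmul := Subgroup.card_eq_card_quotient_mul_card_subgroup sq.ker
  rw [Nat.card_congr (QuotientGroup.quotientKerEquivRange sq).toEquiv, hP] at hmul
  have hle : Nat.card sq.ker ≤ Nat.card sq.range := Nat.le_of_dvd Nat.card_pos (card_dvd_of_le hker)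
  obtain ⟨v, hvT, hv2, hv1, hvs⟩ := exists_other hG T s
  have h3 : 3 ≤ Nat.card sq.ker := by
    have hmem : ∀ x : P, x * x = 1 → x ∈ sq.ker := fun x hx => MonoidHom.mem_ker.2 ((pow_two x).trans hx)
    exact three_le_card hs1 (fun e => hv1 (congrArg Subtype.val e)) (fun e => hvs (congrArg Subtype.val e))
      (hmem s hs2) (hmem ⟨v, hvT⟩ (Subtype.ext hv2))
  have hk4 : Nat.card sq.ker = 4 ∧ Nat.card sq.range = 4 := by
    have hd : Nat.card sq.ker ∣ 16 := ⟨_, by rw [mul_comm]; exact hmul⟩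
    have hsmall : Nat.card sq.ker ≤ 4 := by nlinarith
    interval_cases h : Nat.card sq.ker <;> omega
  have hrk : sq.range = sq.ker :=
    (eq_of_le_of_card_ge hker (by rw [hk4.1, hk4.2])).symm
  have hx4 : ∀ x : P, x ^ 4 = 1 := by
    intro x
    have : sq x ∈ sq.ker := hrk ▸ ⟨x, rfl⟩
    have h := MonoidHom.mem_ker.1 this
    simp only [sq, powMonoidHom_apply, ← pow_mul] at h
    exact h
  obtain ⟨s2, hs2m, hs21, hs2s⟩ : ∃ s2 ∈ sq.range, s2 ≠ 1 ∧ s2 ≠ s := by
    by_contra! hcon
    have : Nat.card sq.range ≤ 2 := by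
      refine le_trans (Nat.card_le_card_of_surjective
        (fun b : Bool => if b then (⟨s, ⟨r, hr⟩⟩ : sq.range) else 1) fun w => ?_) (by simp)
      by_cases hw : (w : P) = 1
      · exact ⟨false, Subtype.ext (by simp [hw])⟩
      · exact ⟨true, Subtype.ext (by simp [hcon w w.2 hw])⟩
    omega
  obtain ⟨r2, hr2⟩ := hs2m
  have hsq2 : ∀ x : P, x ^ 2 * x ^ 2 = 1 := fun x => by rw [← pow_add]; exact hx4 x
  let g : ∀ x : P, ZMod 4 →+ Additive P := fun x => ZMod.lift 4
    ⟨zmultiplesHom (Additive P) (Additive.ofMul x), by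
      simp only [zmultiplesHom_apply]
      rw [← ofMul_zpow, zpow_natCast, hx4 x]; rfl⟩
  have hg : ∀ (x : P) (i : ℕ), g x i = Additive.ofMul (x ^ i) := fun x i => by
    simp only [g]
    rw [show ((i : ℕ) : ZMod 4) = (((i : ℤ)) : ZMod 4) by push_cast; rfl, ZMod.lift_coe]
    simp
  let φ : ZMod 4 × ZMod 4 →+ Additive P := (g r).coprod (g r2)
  have hφinj : Function.Injective φ := by
    rw [injective_iff_map_eq_zero]
    rintro ⟨i, j⟩ hij
    have hij' : r ^ i.val * r2 ^ j.val = 1 := by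
      have : φ (((i.val : ℕ) : ZMod 4), ((j.val : ℕ) : ZMod 4)) = 0 := by
        simpa [ZMod.natCast_zmod_val] using hij
      simp only [φ, AddMonoidHom.coprod_apply, hg] at this
      exact this
    have hr' : r ^ 2 = s := hr
    have hr2' : r2 ^ 2 = s2 := hr2
    have hsq : s ^ i.val * s2 ^ j.val = 1 := by
      rw [← hr', ← hr2', ← pow_mul, ← pow_mul, mul_comm 2, mul_comm 2, pow_mul, pow_mul, ← mul_pow, hij',
        one_pow]
    have hs22 : s2 * s2 = 1 := by rw [← hr2']; exact hsq2 r2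
    have hsp : ∀ n : ℕ, s ^ n = if n % 2 = 0 then 1 else s := fun n => by
      conv_lhs => rw [← Nat.div_add_mod n 2, pow_add, pow_mul, pow_two, hs2, one_pow, one_mul]
      split_ifs with h
      · rw [h, pow_zero]
      · rw [show n % 2 = 1 by omega, pow_one]
    have hsp2 : ∀ n : ℕ, s2 ^ n = if n % 2 = 0 then 1 else s2 := fun n => by
      conv_lhs => rw [← Nat.div_add_mod n 2, pow_add, pow_mul, pow_two, hs22, one_pow, one_mul]
      split_ifs with h
      · rw [h, pow_zero]
      · rw [show n % 2 = 1 by omega, pow_one]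
    rw [hsp, hsp2] at hsq
    have hpar : i.val % 2 = 0 ∧ j.val % 2 = 0 := by
      split_ifs at hsq with h1 h2 h2
      · exact ⟨h1, h2⟩
      · exact absurd (by simpa using hsq) hs21
      · exact absurd (by simpa using hsq) hs1
      · exact absurd ((eq_inv_of_mul_eq_one_left hsq).trans (inv_eq_of_mul_eq_one_right hs22)).symm hs2s
    obtain ⟨i', hi'⟩ := Nat.dvd_of_mod_eq_zero hpar.1
    obtain ⟨j', hj'⟩ := Nat.dvd_of_mod_eq_zero hpar.2
    rw [hi', hj', pow_mul, pow_mul, hr', hr2', hsp, hsp2] at hij'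
    have hlt := i.val_lt
    have hlt2 := j.val_lt
    have hi0 : i' = 0 ∧ j' = 0 := by
      split_ifs at hij' with h1 h2 h2
      · omega
      · exact absurd (by simpa using hij') hs21
      · exact absurd (by simpa using hij') hs1
      · exact absurd ((eq_inv_of_mul_eq_one_left hij').trans (inv_eq_of_mul_eq_one_right hs22)).symm hs2s
    rw [hi0.1, mul_zero] at hi'
    rw [hi0.2, mul_zero] at hj'
    exact Prod.ext ((ZMod.val_eq_zero i).1 hi') ((ZMod.val_eq_zero j).1 hj')
  have hbij : Function.Bijective φ := by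
    rw [Nat.bijective_iff_injective_and_card]
    exact ⟨hφinj, by simp [Nat.card_prod, hP]; exact hP.symm⟩
  let e : (T : Subgroup G) ≃* Multiplicative (ZMod (2 ^ 2) × ZMod (2 ^ 2)) :=
    (AddEquiv.toMultiplicativeLeft (AddEquiv.ofBijective φ hbij)).symm
  exact not_normal hG T (Cfsg.Agent.S0949.result T 2 le_rfl e (no_odd_normal hG)).1

/-- The central involution of `T` is unique. -/
theorem central_unique (hG : Nat.card G = 5616) (T : Sylow 2 G) :
    ∀ z z' : ↥(T : Subgroup G), z ∈ center _ → z' ∈ center _ → z * z = 1 → z' * z' = 1 → z ≠ 1 →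
      z' ≠ 1 → z = z' := by
  classical
  intro z z' hz hz' hz2 hz'2 hz1 hz'1
  by_contra hne
  have hP := card_sylow_two hG T
  have h4 : 4 ≤ Nat.card (center ↥(T : Subgroup G)) := by
    have h3 : 3 ≤ Nat.card (center ↥(T : Subgroup G)) := by
      exact three_le_card hz1 hz'1 (Ne.symm hne) hz hz'
    have hd : Nat.card (center ↥(T : Subgroup G)) ∣ 16 := hP ▸ card_subgroup_dvd_card _
    by_contra h
    have : Nat.card (center ↥(T : Subgroup G)) = 3 := by omega
    rw [this] at hd
    norm_num at hd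
  obtain ⟨c, hc1, hc2, hcZ, hall, ⟨a, b, hab⟩, -, -⟩ :=
    exists_unique_commutator hP (not_comm_sylow hG T) h4
  have key : ∀ w : ↥(T : Subgroup G), w ∈ center _ → w * w = 1 → w ≠ 1 → w = c := by
    intro w hw hw2 hw1
    obtain ⟨n, hn, he⟩ := fusion hG T c.2 w.2
      (fun x hx => congrArg Subtype.val (mem_center_iff.1 hcZ ⟨x, hx⟩))
      (fun x hx => congrArg Subtype.val (mem_center_iff.1 hw ⟨x, hx⟩))
      (fun e => hc1 (Subtype.ext e)) (congrArg Subtype.val hc2)
      (fun e => hw1 (Subtype.ext e)) (congrArg Subtype.val hw2)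
    have hw' : w = ⁅(⟨n⁻¹ * a * n, conj_mem hn a.2⟩ : ↥(T : Subgroup G)), ⟨n⁻¹ * b * n, conj_mem hn b.2⟩⁆ := by
      apply Subtype.ext
      rw [he, ← hab]
      simp only [commutatorElement_def, Subgroup.coe_mul, InvMemClass.coe_inv]
      group
    rw [hw']
    exact hall _ _ (hw' ▸ hw1)
  exact hne ((key z hz hz2 hz1).trans (key z' hz' hz'2 hz'1).symm)

end CfsgLib.SmallSimple.L33
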