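import Cfsg.Agent.Lib.Sporadic.M11Order.Census
import Cfsg.Agent.Lib.SmallOrder.AutoFast
import Cfsg.Agent.Lib.SmallOrder.Options

/-!
A simple group of order 5616: the principal `13`-block.
-/

set_option autoImplicit false

namespace CfsgLib.SmallSimple.L33

open Subgroup CfsgLib.SmallOrder

universe u

variable {G : Type u} [Group G] [Fintype G] [IsSimpleGroup G]

theorem not_comm (hG : Nat.card G = 5616) : ¬ IsMulCommutative G :=
  not_comm_of_not_prime (by rw [hG]; norm_num)

theorem options_check : optionsWithin 5616 13 432 75 [(144, 1, 3)] = true := by decide +kernel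

theorem sylow_thirteen (hG : Nat.card G = 5616) [Fact (Nat.Prime 13)] (P : Sylow 13 G) :
    Nat.card ↥(centralizer ((P : Subgroup G) : Set G)) = 13 ∧
      Nat.card ↥(normalizer ((P : Subgroup G) : Set G)) = 39 := by
  obtain ⟨n, c, e, hmem, -, hC, hN⟩ := exists_option hG 432 75 [(144, 1, 3)] (by norm_num)
    (by norm_num) (by norm_num) options_check P
  simp only [List.mem_singleton, Prod.mk.injEq] at hmem
  obtain ⟨-, rfl, rfl⟩ := hmem
  exact ⟨hC, hN⟩

/-- The three non-principal non-zero weights in the principal `13`-block. -/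
structure Block (G : Type u) [Group G] [Fintype G] where
  /-- the character of degree 12 -/
  a : Cfsg.IrrCharacter G
  /-- the character of degree 27 -/
  b : Cfsg.IrrCharacter G
  /-- an exceptional character, of degree 16 -/
  x : Cfsg.IrrCharacter G
  ha : Char.degree a.1 = 12
  hb : Char.degree b.1 = 27
  hx : Char.degree x.1 = 16
  hne : a ≠ Char.principalIrr ∧ b ≠ Char.principalIrr ∧ x ≠ Char.principalIrr
  /-- orthogonality to an element of order prime to `13` -/
  lin : ∀ y : G, ¬ 13 ∣ orderOf y → -1 + a.1 y - b.1 y + x.1 y = 0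
  /-- no involution inverts an element of order `13` -/
  quad : ∀ y : G, y ≠ 1 → y ^ 2 = 1 →
    -1 + a.1 y ^ 2 / 12 - b.1 y ^ 2 / 27 + x.1 y ^ 2 / 16 = 0
  /-- a character of degree divisible by `13` -/
  exists_dvd : ∃ χ : Cfsg.IrrCharacter G, 13 ∣ Char.degree χ.1
  /-- the only non-principal character of degree at most 12 -/
  small : ∀ χ : Cfsg.IrrCharacter G, χ ≠ Char.principalIrr → Char.degree χ.1 ≤ 12 → χ = a

/-- the only admissible shape of the principal block -/
def okShape (W : ℤ) (f : ℕ) (l : List (ℤ × ℕ)) : Bool :=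
  decide (W = 1) && Nat.beq f 16 && Nat.beq l.length 2 && Nat.beq (l.count (1, 12)) 1 &&
    Nat.beq (l.count (-1, 27)) 1

theorem principal_degree : Char.degree (Char.principalIrr : Cfsg.IrrCharacter G).1 = 1 := by
  have h := Char.IsCharacter.degree_cast
    (Char.IsIrrCharacter.isCharacter (Char.principalIrr : Cfsg.IrrCharacter G).2)
  rw [Char.principalIrr_apply] at h
  exact_mod_cast h

theorem exists_block (hG : Nat.card G = 5616) : Nonempty (Block G) := by
  classical
  have : Fact (Nat.Prime 13) := ⟨by norm_num⟩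
  obtain ⟨P⟩ := (inferInstance : Nonempty (Sylow 13 G))
  have hP : Nat.card ↥(P : Subgroup G) = 13 := by
    simpa using card_sylow_eq (e := 1) (m := 432) (by rw [hG]; norm_num) (by norm_num) P
  obtain ⟨S⟩ := exists_csplit P hP
  obtain ⟨hC, hN⟩ := sylow_thirteen hG P
  have hV : Nat.card S.V = 1 := by
    have := S.card_centralizer
    rw [hC] at this
    omega
  have he : Nat.card S.act.range = 3 := by
    have := S.card_normalizer
    rw [hN, hV] at this
    omega
  obtain ⟨K⟩ := S.exists_census
  have := Fintype.ofFinite S.Orb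
  have hO : Fintype.card S.Orb = 4 := S.card_orb (by rw [he])
  obtain ⟨o0⟩ : Nonempty S.Orb := Fintype.card_pos_iff.1 (by omega)
  have : Nonempty S.Orb := ⟨o0⟩
  set T : Finset (Cfsg.IrrCharacter G) := Finset.univ.image K.μ with hT
  set A := Finset.univ.filter fun χ : Cfsg.IrrCharacter G =>
    K.w χ ≠ 0 ∧ χ ≠ Char.principalIrr ∧ χ ∉ T with hAdef
  have hAmem : ∀ χ ∈ A, K.w χ ≠ 0 ∧ χ ≠ Char.principalIrr ∧ χ ∉ T := fun χ hχ =>
    (Finset.mem_filter.1 hχ).2
  have hdisj : Disjoint (insert Char.principalIrr T) A := by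
    rw [Finset.disjoint_left]
    intro χ hχ hA'
    obtain ⟨-, h1, h2⟩ := hAmem χ hA'
    rcases Finset.mem_insert.1 hχ with h | h
    · exact h1 h
    · exact h2 h
  have hp1 : (Char.principalIrr : Cfsg.IrrCharacter G) ∉ T := by
    intro h
    obtain ⟨o, -, ho⟩ := Finset.mem_image.1 h
    exact K.hμ1 o ho
  have hw0 : ∀ χ, χ ∉ A → χ ≠ Char.principalIrr → χ ∉ T → K.w χ = 0 := by
    intro χ h h1 h2
    by_contra hw
    exact h (Finset.mem_filter.2 ⟨Finset.mem_univ _, hw, h1, h2⟩)
  have hsplit : ∀ g : Cfsg.IrrCharacter G → ℂ, (∀ χ, χ ∉ A → χ ≠ Char.principalIrr → χ ∉ T →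
      g χ = 0) → ∑ χ, g χ = g Char.principalIrr + ∑ o, g (K.μ o) + ∑ χ ∈ A, g χ := by
    intro g hg
    rw [← Finset.sum_subset (Finset.subset_univ (insert Char.principalIrr T ∪ A)) (fun χ _ hχ => by
        simp only [Finset.mem_union, Finset.mem_insert, not_or] at hχ
        exact hg χ hχ.2 hχ.1.1 hχ.1.2), Finset.sum_union hdisj, Finset.sum_insert hp1,
      Finset.sum_image (fun a _ b _ h => K.hμ h)]
  have hdegmod : ∀ χ : Cfsg.IrrCharacter G, (Char.degree χ.1 : ZMod 13) =
      ((3 * ∑ o, S.vec χ o : ℤ) : ZMod 13) := fun χ => by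
    rw [S.degree_cast hV, he, Int.cast_mul]; norm_num
  have hsv : ∀ χ, χ ∉ T → ∑ o, S.vec χ o = 4 * K.w χ := fun χ h => by
    rw [K.sum_vec_of_ne (fun o ho => h (Finset.mem_image.2 ⟨o, Finset.mem_univ _, ho.symm⟩)), hO]
    rfl
  have h13 : (13 : ZMod 13) = 0 := rfl
  set f0 := Char.degree (K.μ o0).1 with hf0
  have hfo : ∀ o, Char.degree (K.μ o).1 = f0 := fun o => K.degree_const o o0
  have hnorm : 1 + 4 * K.k ^ 2 + 2 * K.ε * K.k + ∑ χ ∈ A, K.w χ ^ 2 = 3 := by
    have h := congrArg (Int.cast (R := ℂ)) (K.norm o0)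
    rw [he] at h
    push_cast at h
    rw [hsplit _ (fun χ a b c => by rw [hw0 χ a b c]; simp), K.w_principal] at h
    simp only [K.hk, Finset.sum_const, Finset.card_univ, hO, nsmul_eq_mul] at h
    apply Int.cast_injective (α := ℂ)
    push_cast at h ⊢
    simp only [pow_two]
    linear_combination h
  have hdeg : ∑ χ ∈ A, (Char.degree χ.1 : ℤ) * K.w χ + (4 * K.k + K.ε) * f0 = 1 := by
    have h := congrArg (Int.cast (R := ℂ)) (K.degree_eq o0)
    push_cast at h
    rw [hsplit _ (fun χ a b c => by rw [hw0 χ a b c]; simp), K.w_principal, principal_degree] at h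
    simp only [K.hk, hfo, Finset.sum_const, Finset.card_univ, hO, nsmul_eq_mul] at h
    apply Int.cast_injective (α := ℂ)
    push_cast at h ⊢
    linear_combination h
  have hTsq : ∑ χ ∈ T, Char.degree χ.1 ^ 2 = 4 * f0 ^ 2 := by
    rw [Finset.sum_image (fun a _ b _ h => K.hμ h)]
    simp [hfo, hO]
  let s : DegreeSolution 5616 13 3 4 :=
    { l := A.toList.map fun χ => (K.w χ, Char.degree χ.1)
      ε := K.ε
      k := K.k
      f0 := f0
      hε := K.hε
      norm := by
        rw [List.map_map, Finset.sum_map_toList]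
        simp only [Function.comp_apply]
        push_cast
        linarith
      degEq := by
        rw [List.map_map, Finset.sum_map_toList]
        simp only [Function.comp_apply, mul_comm (K.w _)]
        push_cast
        linarith
      squares := by
        rw [List.map_map, Finset.sum_map_toList]
        simp only [Function.comp_apply]
        rw [← hG, ← Char.sum_degree_sq (G := G)]
        have h := Finset.sum_le_sum_of_subset (f := fun χ : Cfsg.IrrCharacter G => Char.degree χ.1 ^ 2)
          (Finset.subset_univ (insert Char.principalIrr T ∪ A))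
        rw [Finset.sum_union hdisj, Finset.sum_insert hp1, principal_degree, hTsq] at h
        linarith
      others := by
        intro x hx
        obtain ⟨χ, hχ, rfl⟩ := List.mem_map.1 hx
        obtain ⟨h0, h1, h2⟩ := hAmem χ (Finset.mem_toList.1 hχ)
        refine ⟨h0, he ▸ S.card_range_le_degree h1, hG ▸ degree_dvd_card χ, ?_⟩
        rw [← ZMod.intCast_zmod_eq_zero_iff_dvd]
        have h := hdegmod χ
        rw [hsv χ h2] at h
        push_cast at h ⊢
        rw [h]
        linear_combination (K.w χ : ZMod 13) * h13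
      f0_le := he ▸ S.card_range_le_degree (K.hμ1 o0)
      f0_dvd := hG ▸ degree_dvd_card _
      f0_congr := by
        rw [← ZMod.intCast_zmod_eq_zero_iff_dvd]
        have h := hdegmod (K.μ o0)
        rw [K.sum_vec_μ, hO] at h
        push_cast at h ⊢
        rw [hf0, h]
        linear_combination (K.k : ZMod 13) * h13 }
  have hcheck : solCheck 5616 13 3 4 75 (fun _ => true) okShape = true := by decide +kernel
  have hok := s.of_solCheck (ok := okShape) (fun W f a b hab => by
    simp only [okShape, hab.length_eq, hab.count_eq]) (by norm_num) (by norm_num)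
    (fun h => absurd h (by norm_num)) rfl (fun _ _ => rfl) hcheck
  simp only [okShape, Bool.and_eq_true, decide_eq_true_eq, Nat.beq_eq, s,
    List.length_map, Finset.length_toList, List.count_eq_countP, List.countP_map] at hok
  have hcount : ∀ (q : ℤ × ℕ), A.toList.countP ((fun x => x == q) ∘ fun χ => (K.w χ, Char.degree χ.1)) =
      (A.filter fun χ => (K.w χ, Char.degree χ.1) = q).card := by
    intro q
    rw [List.countP_eq_length_filter, ← List.toFinset_card_of_nodup (A.nodup_toList.filter _)]
    congr 1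
    ext χ
    simp
  simp only [hcount, Nat.cast_ofNat] at hok
  obtain ⟨⟨⟨⟨hW, hf⟩, hl⟩, hca⟩, hcb⟩ := hok
  obtain ⟨a, ha⟩ := Finset.card_eq_one.1 hca
  obtain ⟨b, hb⟩ := Finset.card_eq_one.1 hcb
  have ha' := Finset.mem_filter.1 (ha.ge (Finset.mem_singleton_self a))
  have hb' := Finset.mem_filter.1 (hb.ge (Finset.mem_singleton_self b))
  simp only [Prod.mk.injEq] at ha' hb'
  have hab : a ≠ b := fun h => by
    have := ha'.2.2; rw [h, hb'.2.2] at this; omega
  have hA : A = {a, b} := (Finset.eq_of_subset_of_card_le (by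
    intro χ hχ
    rcases Finset.mem_insert.1 hχ with rfl | hχ
    · exact ha'.1
    · rw [Finset.mem_singleton.1 hχ]; exact hb'.1) (by rw [hl, Finset.card_pair hab])).symm
  have hlin : ∀ g : Cfsg.IrrCharacter G → ℂ,
      (∀ o : S.Orb, ∑ χ : Cfsg.IrrCharacter G, g χ * (S.vec χ o : ℂ) = 0) →
        -g Char.principalIrr + g a - g b + g (K.μ o0) = 0 := by
    intro g hg
    have h := K.linear g hg o0
    rw [hsplit _ (fun χ a b c => by rw [hw0 χ a b c]; simp), K.w_principal, hA, Finset.sum_pair hab,
      ha'.2.1, hb'.2.1] at h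
    rw [Finset.sum_congr rfl (g := fun _ : S.Orb => g (K.μ o0) * (K.k : ℂ))
      (fun o _ => by rw [K.const g hg o o0, K.hk])] at h
    simp only [Finset.sum_const, Finset.card_univ, hO, nsmul_eq_mul] at h
    have hW' : (4 * (K.k : ℂ) + K.ε) = 1 := by exact_mod_cast congrArg (Int.cast (R := ℂ)) hW
    push_cast at h
    linear_combination h - g (K.μ o0) * hW'
  refine ⟨⟨a, b, K.μ o0, ha'.2.2, hb'.2.2, hf0.symm.trans hf, ⟨(hAmem a ha'.1).2.1, (hAmem b hb'.1).2.1,
    K.hμ1 o0⟩, ?_, ?_, ?_, ?_⟩⟩
  · intro y hy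
    have h := hlin (fun χ => χ.1 y) (fun o => S.sum_value_mul_vec hy o)
    simp only [Char.principalIrr_apply] at h
    exact h
  · intro y hy1 hy2
    have hno : ∀ s : G, s ∈ normalizer ((P : Subgroup G) : Set G) → IsConj y s → False := by
      intro s hs hys
      have hs2 : orderOf s = 2 := by
        obtain ⟨c, hc⟩ := isConj_iff.1 hys
        rw [← hc, show c * y * c⁻¹ = MulAut.conj c y from rfl, MulEquiv.orderOf_eq]
        exact orderOf_eq_prime hy2 hy1
      have := Subgroup.orderOf_dvd_natCard _ hs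
      rw [hs2, hN] at this
      norm_num at this
    have h := hlin (fun χ => χ.1 y ^ 2 / χ.1 1)
      (fun o => (S.other_involution_relations (by norm_num) hy1 hy2 hno o).2)
    simp only [Char.principalIrr_apply, ← Char.IsCharacter.degree_cast
      (Char.IsIrrCharacter.isCharacter (Subtype.prop _)), ha'.2.2, hb'.2.2, ← hf0, hf] at h
    simpa [principal_degree] using h
  · by_contra hno
    push Not at hno
    have hall : ∀ χ : Cfsg.IrrCharacter G, χ ∈ insert Char.principalIrr T ∪ A := by
      intro χ
      by_contra hχ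
      simp only [Finset.mem_union, Finset.mem_insert, not_or] at hχ
      apply hno χ
      have h := hdegmod χ
      rw [hsv χ hχ.1.2, hw0 χ hχ.2 hχ.1.1 hχ.1.2] at h
      exact (ZMod.natCast_eq_zero_iff _ _).1 (by rw [h]; simp)
    have h := Char.sum_degree_sq (G := G)
    rw [← Finset.eq_univ_of_forall hall, Finset.sum_union hdisj, Finset.sum_insert hp1,
      principal_degree, hTsq, hA, Finset.sum_pair hab, ha'.2.2, hb'.2.2, hf, hG] at h
    norm_num at h
  · intro χ hχ1 hle
    by_cases hA' : χ ∈ A
    · rw [hA, Finset.mem_insert, Finset.mem_singleton] at hA'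
      rcases hA' with rfl | rfl
      · rfl
      · omega
    exfalso
    by_cases hT' : χ ∈ T
    · obtain ⟨o, -, rfl⟩ := Finset.mem_image.1 hT'
      rw [hfo, hf] at hle
      omega
    have h := hdegmod χ
    rw [hsv χ hT', hw0 χ hA' hχ1 hT'] at h
    have h13dvd : 13 ∣ Char.degree χ.1 := (ZMod.natCast_eq_zero_iff _ _).1 (by rw [h]; simp)
    have := Nat.le_of_dvd (Char.IsIrrCharacter.degree_pos χ.2) h13dvd
    omega

end CfsgLib.SmallSimple.L33
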